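import Groth.Agent.AlgSpShriek.Sheaf

/-!
# Retracts, subpresheaves and comparisons for sheafified extensions by zero
-/

set_option autoImplicit false
set_option linter.style.haveILetI false
set_option linter.unusedSectionVars false
set_option backward.isDefEq.respectTransparency false
set_option backward.isDefEq.respectTransparency.types false
set_option maxHeartbeats 1000000

universe w v u

open CategoryTheory Limits Opposite DirectSum

noncomputable section

namespace Groth.Agent.AlgSpShriek

variable {C : Type u} [Category.{v} C]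

/-- The presheaf of sets with one section. -/
def topH : Cᵒᵖ ⥤ Type w := (Functor.const _).obj PUnit

/-- A subpresheaf cut out by a family of predicates stable under restriction. -/
def subH (H : Cᵒᵖ ⥤ Type w) (p : ∀ V : C, H.obj (op V) → Prop)
    (hp : ∀ {V W : C} (g : W ⟶ V) (x : H.obj (op V)), p V x → p W (H.map g.op x)) : Cᵒᵖ ⥤ Type w where
  obj V := {x : H.obj (op V.unop) // p V.unop x}
  map g := TypeCat.ofHom fun x => ⟨H.map g x.1, hp g.unop x.1 x.2⟩
  map_id V := by ext x; exact ConcreteCategory.congr_hom (H.map_id V) x.1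
  map_comp g g' := by ext x; exact ConcreteCategory.congr_hom (H.map_comp g g') x.1

section Sub

variable {H : Cᵒᵖ ⥤ Type w} {p p' : ∀ V : C, H.obj (op V) → Prop}
  {hp : ∀ {V W : C} (g : W ⟶ V) (x : H.obj (op V)), p V x → p W (H.map g.op x)}
  {hp' : ∀ {V W : C} (g : W ⟶ V) (x : H.obj (op V)), p' V x → p' W (H.map g.op x)}

/-- The inclusion of a subpresheaf. -/
def subι : subH H p hp ⟶ H where
  app V := TypeCat.ofHom fun x => x.1
  naturality _ _ _ := rfl

/-- A morphism into a subpresheaf. -/
def subLift {K : Cᵒᵖ ⥤ Type w} (f : K ⟶ H) (h : ∀ (V : C) (x : K.obj (op V)), p V (f.app (op V) x)) :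
    K ⟶ subH H p hp where
  app V := TypeCat.ofHom fun x => ⟨f.app (op V.unop) x, h V.unop x⟩
  naturality V W g := by ext x; exact Subtype.ext (by exact NatTrans.naturality_apply f g x)

/-- The inclusion between subpresheaves. -/
def subLE (h : ∀ V x, p V x → p' V x) : subH H p hp ⟶ subH H p' hp' :=
  subLift subι fun V x => h V x.1 x.2

variable {J : GrothendieckTopology C}

/-- Mayer-Vietoris data for two subpresheaves. -/
def MVData.ofSub {p₁ p₂ p₃ : ∀ V : C, H.obj (op V) → Prop}
    {hp₁ : ∀ {V W : C} (g : W ⟶ V) (x : H.obj (op V)), p₁ V x → p₁ W (H.map g.op x)}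
    {hp₂ : ∀ {V W : C} (g : W ⟶ V) (x : H.obj (op V)), p₂ V x → p₂ W (H.map g.op x)}
    {hp₃ : ∀ {V W : C} (g : W ⟶ V) (x : H.obj (op V)), p₃ V x → p₃ W (H.map g.op x)}
    (h₁ : ∀ V x, p₁ V x → p₃ V x) (h₂ : ∀ V x, p₂ V x → p₃ V x)
    (hs : ∀ (V : C) (x : H.obj (op V)), p₃ V x → ∃ T ∈ J V, ∀ ⦃W : C⦄ (g : W ⟶ V), T.arrows g →
      p₁ W (H.map g.op x) ∨ p₂ W (H.map g.op x)) :
    MVData J (subH H (fun V x => p₁ V x ∧ p₂ V x) fun g x h => ⟨hp₁ g x h.1, hp₂ g x h.2⟩) (subH H p₁ hp₁)
      (subH H p₂ hp₂) (subH H p₃ hp₃) where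
  p := subLE fun V x h => h.1
  q := subLE fun V x h => h.2
  a := subLE h₁
  b := subLE h₂
  comm V x := rfl
  inj_q V x y h := Subtype.ext (congrArg (fun z : {x // p₂ V x} => z.1) h)
  inj_a V x y h := Subtype.ext (congrArg (fun z : {x // p₃ V x} => z.1) h)
  lift V y z h := by
    have e : y.1 = z.1 := congrArg (fun t : {x // p₃ V x} => t.1) h
    exact ⟨⟨y.1, y.2, e ▸ z.2⟩, Subtype.ext rfl, Subtype.ext e⟩
  surj V t := by
    obtain ⟨T, hT, hT'⟩ := hs V t.1 t.2
    refine ⟨T, hT, fun W g hg => ?_⟩
    rcases hT' g hg with h | h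
    · exact Or.inl ⟨⟨_, h⟩, Subtype.ext rfl⟩
    · exact Or.inr ⟨⟨_, h⟩, Subtype.ext rfl⟩
  diag V z z' h := ⟨⊤, J.top_mem V, fun W g _ => Or.inl (congrArg _ (Subtype.ext
    (congrArg (fun t : {x // p₃ V x} => t.1) h)))⟩

end Sub

section Pre

variable {R : Cᵒᵖ ⥤ RingCat.{w}} {H H' H'' : Cᵒᵖ ⥤ Type w} (M : PresheafOfModules.{w} R)

theorem hPre_id : hPre M (𝟙 H) = 𝟙 _ := by
  refine PresheafOfModules.hom_ext fun V => ModuleCat.hom_ext (LinearMap.ext fun m => ?_)
  refine DFunLike.congr_fun (show hTot M (𝟙 H) V.unop = AddMonoidHom.id _ from totM_ext H M fun x a => ?_)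
    (show Tot H (preH H M) V.unop from m)
  exact hTot_ιM M (𝟙 H) V.unop x a

theorem hPre_comp (f : H ⟶ H') (f' : H' ⟶ H'') : hPre M (f ≫ f') = hPre M f ≫ hPre M f' := by
  refine PresheafOfModules.hom_ext fun V => ModuleCat.hom_ext (LinearMap.ext fun m => ?_)
  refine DFunLike.congr_fun (show hTot M (f ≫ f') V.unop = (hTot M f' V.unop).comp (hTot M f V.unop) from
    totM_ext H M fun x a => ?_) (show Tot H (preH H M) V.unop from m)
  rw [AddMonoidHom.comp_apply, hTot_ιM, hTot_ιM, hTot_ιM]
  rfl

/-- Weights with sum one on the fibres of a quotient by a finite group. -/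
structure QData (R : Cᵒᵖ ⥤ RingCat.{w}) {H H' : Cᵒᵖ ⥤ Type w} (π : H ⟶ H') (G : Type) [Group G] [Fintype G] where
  act : G → (H ⟶ H)
  act_mul : ∀ (g g' : G) (V : C) (x : H.obj (op V)),
    (act (g * g')).app (op V) x = (act g).app (op V) ((act g').app (op V) x)
  orbit : ∀ (V : C) (x y : H.obj (op V)),
    π.app (op V) x = π.app (op V) y ↔ ∃ g, y = (act g).app (op V) x
  surj : ∀ V : C, Function.Surjective (π.app (op V))
  t : ∀ V : C, H.obj (op V) → R.obj (op V)
  t_nat : ∀ {V W : C} (g : W ⟶ V) (x : H.obj (op V)), t W (H.map g.op x) = R.map g.op (t V x)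
  t_comm : ∀ (V : C) (x : H.obj (op V)) (r : R.obj (op V)), t V x * r = r * t V x
  sum_one : ∀ (V : C) (x : H.obj (op V)), ∑ g, t V ((act g).app (op V) x) = 1

variable {G : Type} [Group G] [Fintype G] {π : H ⟶ H'} (D : QData R π G)

namespace QData

/-- The weighted sum over an orbit. -/
def term (V : C) (x : H.obj (op V)) : M.obj (op V) →+ Tot H (preH H M) V :=
  ∑ g, (ιM H M V ((D.act g).app (op V) x)).comp
    (DistribSMul.toAddMonoidHom (M.obj (op V)) (D.t V ((D.act g).app (op V) x)))

theorem term_apply (V : C) (x : H.obj (op V)) (a : M.obj (op V)) :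
    D.term M V x a = ∑ g, ιM H M V ((D.act g).app (op V) x) (D.t V ((D.act g).app (op V) x) • a) := by
  simp only [term, AddMonoidHom.finsetSum_apply]
  rfl

theorem term_congr (V : C) (x y : H.obj (op V)) (h : π.app (op V) x = π.app (op V) y) :
    D.term M V y = D.term M V x := by
  obtain ⟨g₀, rfl⟩ := (D.orbit V x y).1 h
  refine AddMonoidHom.ext fun a => ?_
  rw [term_apply, term_apply]
  refine Fintype.sum_equiv (Equiv.mulRight g₀) _ _ fun g => ?_
  rw [Equiv.coe_mulRight, D.act_mul]

open scoped Classical in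
/-- The section of the projection, on sums. -/
def τTot (V : C) : Tot H' (preH H' M) V →+ Tot H (preH H M) V :=
  DirectSum.toAddMonoid fun x => D.term M V (Function.surjInv (D.surj V) x)

theorem τTot_ιM (V : C) (x : H.obj (op V)) (a : M.obj (op V)) :
    D.τTot M V (ιM H' M V (π.app (op V) x) a) = D.term M V x a := by
  classical
  refine Eq.trans (DirectSum.toAddMonoid_of (fun x => D.term M V (Function.surjInv (D.surj V) x))
    (π.app (op V) x) a) ?_
  rw [D.term_congr M V x _ (Function.surjInv_eq (D.surj V) _).symm]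

/-- The section of the projection. -/
def τ : gObj H' (preH H' M) ⟶ gObj H (preH H M) :=
  PresheafOfModules.homMk
    { app := fun V => AddCommGrpCat.ofHom (D.τTot M V.unop)
      naturality := fun V W g => by
        refine AddCommGrpCat.hom_ext (totM_ext H' M fun x' a => ?_)
        obtain ⟨x, rfl⟩ := D.surj V.unop x'
        show D.τTot M W.unop (resTot H' (preH H' M) g.unop (ιM H' M V.unop (π.app (op V.unop) x) a)) =
          resTot H (preH H M) g.unop (D.τTot M V.unop (ιM H' M V.unop (π.app (op V.unop) x) a))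
        rw [resTot_ιM, ← NatTrans.naturality_apply π g.unop.op x, τTot_ιM, τTot_ιM, term_apply, term_apply, map_sum]
        refine Finset.sum_congr rfl fun k _ => ?_
        rw [resTot_ιM, NatTrans.naturality_apply (D.act k) g.unop.op x, D.t_nat, PresheafOfModules.map_smul] }
    (fun V r m => by
      show D.τTot M V.unop (r • (show Tot H' (preH H' M) V.unop from m)) =
        r • (show Tot H (preH H M) V.unop from D.τTot M V.unop m)
      generalize (show Tot H' (preH H' M) V.unop from m) = m'
      induction m' using totM_induction with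
      | h0 => rw [smul_zero, map_zero, smul_zero]
      | hadd a b ha hb => rw [smul_add, map_add, map_add, ha, hb, smul_add]
      | hι x' a =>
        obtain ⟨x, rfl⟩ := D.surj V.unop x'
        rw [← ιM_smul, τTot_ιM, τTot_ιM, term_apply, term_apply, Finset.smul_sum]
        refine Finset.sum_congr rfl fun k _ => ?_
        rw [← ιM_smul, smul_smul, smul_smul, D.t_comm])

theorem τ_π : D.τ M ≫ hPre M π = 𝟙 _ := by
  refine PresheafOfModules.hom_ext fun V => ModuleCat.hom_ext (LinearMap.ext fun m => ?_)
  refine DFunLike.congr_fun (show (hTot M π V.unop).comp (D.τTot M V.unop) = AddMonoidHom.id _ from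
    totM_ext H' M fun x' a => ?_) (show Tot H' (preH H' M) V.unop from m)
  obtain ⟨x, rfl⟩ := D.surj V.unop x'
  have e : ∀ g, π.app (op V.unop) ((D.act g).app (op V.unop) x) = π.app (op V.unop) x := fun g =>
    ((D.orbit _ _ _).2 ⟨g, rfl⟩).symm
  rw [AddMonoidHom.comp_apply, τTot_ιM, term_apply, map_sum]
  simp only [hTot_ιM, e, ← map_sum, ← Finset.sum_smul, D.sum_one, one_smul]
  rfl

theorem τ_natural {N : PresheafOfModules.{w} R} (φ : M ⟶ N) :
    gMap ((PresheafOfModules.pushforward₀ (elπ H') R).map φ) ≫ D.τ N =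
      D.τ M ≫ gMap ((PresheafOfModules.pushforward₀ (elπ H) R).map φ) := by
  refine PresheafOfModules.hom_ext fun V => ModuleCat.hom_ext (LinearMap.ext fun m => ?_)
  show D.τTot N V.unop (mapTot ((PresheafOfModules.pushforward₀ (elπ H') R).map φ) V.unop
      (show Tot H' (preH H' M) V.unop from m)) =
    mapTot ((PresheafOfModules.pushforward₀ (elπ H) R).map φ) V.unop
      (D.τTot M V.unop (show Tot H' (preH H' M) V.unop from m))
  generalize (show Tot H' (preH H' M) V.unop from m) = m'
  induction m' using totM_induction with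
  | h0 => simp only [map_zero]
  | hadd a b ha hb => simp only [map_add, ha, hb]
  | hι x' a =>
    obtain ⟨x, rfl⟩ := D.surj V.unop x'
    rw [τTot_ιM, term_apply, map_sum]
    refine ((congrArg (D.τTot N V.unop) (mapTot_ι (G := preH H' M) (G' := preH H' N)
      ((PresheafOfModules.pushforward₀ (elπ H') R).map φ) V.unop (π.app (op V.unop) x) a)).trans
        ((D.τTot_ιM N V.unop x _).trans (D.term_apply N V.unop x _))).trans (Finset.sum_congr rfl fun k _ => ?_)
    refine Eq.trans ?_ (mapTot_ι (G := preH H M) (G' := preH H N)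
      ((PresheafOfModules.pushforward₀ (elπ H) R).map φ) V.unop _ _).symm
    exact congrArg (ιM H N V.unop _) ((φ.app (op V.unop)).hom.map_smul _ a).symm

end QData

/-- The comparison with the constant coefficients. -/
def εTot (V : C) : Tot (topH : Cᵒᵖ ⥤ Type w) (preH topH M) V →+ M.obj (op V) :=
  haveI : DecidableEq ((topH : Cᵒᵖ ⥤ Type w).obj (op V)) := Classical.decEq _
  DirectSum.toAddMonoid fun _ => AddMonoidHom.id (M.obj (op V))

theorem εTot_ιM (V : C) (x : (topH : Cᵒᵖ ⥤ Type w).obj (op V)) (a : M.obj (op V)) :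
    εTot M V (ιM topH M V x a) = a := by
  classical
  exact DirectSum.toAddMonoid_of (fun _ => AddMonoidHom.id (M.obj (op V))) x a

/-- Extension by zero along the trivial presheaf changes nothing. -/
def εPre : gObj topH (preH topH M) ≅ M := by
  refine PresheafOfModules.isoMk (fun V => LinearEquiv.toModuleIso (LinearEquiv.ofBijective
    { toFun := εTot M V.unop, map_add' := map_add _, map_smul' := fun r m => ?_ } ⟨?_, ?_⟩)) fun V W g => ?_
  · show εTot M V.unop (r • (show Tot topH (preH topH M) V.unop from m)) = r • εTot M V.unop m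
    generalize (show Tot topH (preH topH M) V.unop from m) = m'
    induction m' using totM_induction with
    | h0 => rw [smul_zero, map_zero, smul_zero]
    | hadd a b ha hb => rw [smul_add, map_add, map_add, ha, hb, smul_add]
    | hι x a => rw [← ιM_smul, εTot_ιM, εTot_ιM]
  · show Function.Injective (εTot M V.unop)
    refine Function.LeftInverse.injective (g := fun a => ιM topH M V.unop (PUnit.unit) a) fun m => ?_
    induction m using totM_induction with
    | h0 => simp
    | hadd a b ha hb => simp only [map_add, ha, hb]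
    | hι x a => rw [εTot_ιM]; rfl
  · exact fun a => ⟨ιM topH M V.unop PUnit.unit a, εTot_ιM M _ _ a⟩
  · refine ModuleCat.hom_ext (LinearMap.ext fun m => ?_)
    show εTot M W.unop (resTot topH (preH topH M) g.unop (show Tot topH (preH topH M) V.unop from m)) =
      M.map g (εTot M V.unop m)
    generalize (show Tot topH (preH topH M) V.unop from m) = m'
    induction m' using totM_induction with
    | h0 => simp only [map_zero]
    | hadd a b ha hb => simp only [map_add, ha, hb]
    | hι x a => rw [resTot_ιM, εTot_ιM, εTot_ιM]; rfl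

theorem εPre_natural {N : PresheafOfModules.{w} R} (φ : M ⟶ N) :
    gMap ((PresheafOfModules.pushforward₀ (elπ topH) R).map φ) ≫ (εPre N).hom = (εPre M).hom ≫ φ := by
  refine PresheafOfModules.hom_ext fun V => ModuleCat.hom_ext (LinearMap.ext fun m => ?_)
  show εTot N V.unop (mapTot ((PresheafOfModules.pushforward₀ (elπ topH) R).map φ) V.unop
      (show Tot topH (preH topH M) V.unop from m)) = φ.app V (εTot M V.unop m)
  generalize (show Tot topH (preH topH M) V.unop from m) = m'
  induction m' using totM_induction with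
  | h0 => simp only [map_zero]
  | hadd a b ha hb => simp only [map_add, ha, hb]
  | hι x a =>
    rw [εTot_ιM]
    exact (congrArg (εTot N V.unop) (mapTot_ι (G := preH topH M) (G' := preH topH N)
      ((PresheafOfModules.pushforward₀ (elπ topH) R).map φ) V.unop x a)).trans (εTot_ιM N V.unop x _)

end Pre

section Sh

variable {J : GrothendieckTopology C} {R : Sheaf J RingCat.{w}} [HasSheafify J AddCommGrpCat.{w}]
  [J.WEqualsLocallyBijective AddCommGrpCat.{w}]

theorem jMap_id (H : Cᵒᵖ ⥤ Type w) : jMap (R := R) (𝟙 H) = 𝟙 _ :=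
  NatTrans.ext (funext fun M => (congrArg (shfR R).map (hPre_id M.val)).trans ((shfR R).map_id _))

theorem jMap_comp {H H' H'' : Cᵒᵖ ⥤ Type w} (f : H ⟶ H') (f' : H' ⟶ H'') :
    jMap (R := R) (f ≫ f') = jMap f ≫ jMap f' :=
  NatTrans.ext (funext fun M => (congrArg (shfR R).map (hPre_comp M.val f f')).trans ((shfR R).map_comp _ _))

/-- Isomorphic presheaves of sets give isomorphic functors. -/
def jIso {H H' : Cᵒᵖ ⥤ Type w} (e : H ≅ H') : jH (R := R) H ≅ jH H' where
  hom := jMap e.hom
  inv := jMap e.inv
  hom_inv_id := by rw [← jMap_comp, e.hom_inv_id, jMap_id]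
  inv_hom_id := by rw [← jMap_comp, e.inv_hom_id, jMap_id]

/-- The section given by weights. -/
def jτ {H H' : Cᵒᵖ ⥤ Type w} {π : H ⟶ H'} {G : Type} [Group G] [Fintype G] (D : QData R.obj π G) :
    jH (R := R) H' ⟶ jH H where
  app M := (shfR R).map (D.τ M.val)
  naturality M N φ :=
    ((shfR R).map_comp _ _).symm.trans ((congrArg (shfR R).map (D.τ_natural M.val φ.val)).trans ((shfR R).map_comp _ _))

theorem jτ_π {H H' : Cᵒᵖ ⥤ Type w} {π : H ⟶ H'} {G : Type} [Group G] [Fintype G] (D : QData R.obj π G) :
    jτ D ≫ jMap π = 𝟙 _ :=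
  NatTrans.ext (funext fun M => ((shfR R).map_comp _ _).symm.trans
    ((congrArg (shfR R).map (D.τ_π M.val)).trans ((shfR R).map_id _)))

/-- Extension by zero along the trivial presheaf is the identity. -/
def jTop : jH (R := R) (topH : Cᵒᵖ ⥤ Type w) ≅ 𝟭 _ :=
  NatIso.ofComponents (fun M => (shfR R).mapIso (εPre M.val) ≪≫
      (asIso (PresheafOfModules.sheafificationAdjunction (𝟙 R.obj)).counit).app M)
    fun {M N} φ => by
      refine Eq.trans ?_ (Category.assoc _ _ _).symm
      refine ((Category.assoc _ _ _).symm.trans (congrArg (· ≫ _) (((shfR R).map_comp _ _).symm.trans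
        ((congrArg (shfR R).map (εPre_natural M.val φ.val)).trans ((shfR R).map_comp _ _))))).trans ?_
      exact (Category.assoc _ _ _).trans (congrArg _
        ((PresheafOfModules.sheafificationAdjunction (𝟙 R.obj)).counit.naturality φ))

theorem isZero_jH_of_local {H : Cᵒᵖ ⥤ Type w} (h : ∀ (V : C), H.obj (op V) → ⊥ ∈ J V) (M : SheafOfModules.{w} R) :
    IsZero ((jH H).obj M) := by
  refine isZero_shf_of_local _ fun V m => ?_
  let m' : Tot H (preH H M.val) V := m
  suffices ∃ T ∈ J V, ∀ ⦃W : C⦄ (g : W ⟶ V), T.arrows g → resTot H (preH H M.val) g m' = 0 from this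
  induction m' using totM_induction with
  | h0 => exact ⟨⊤, J.top_mem V, fun W g _ => map_zero _⟩
  | hι x a => exact ⟨⊥, h V x, fun W g hg => False.elim hg⟩
  | hadd a b ha hb =>
    obtain ⟨T, hT, hT'⟩ := ha
    obtain ⟨T₂, hT₂, hT₂'⟩ := hb
    exact ⟨T ⊓ T₂, J.intersection_covering hT hT₂, fun W g hg => by rw [map_add, hT' g hg.1, hT₂' g hg.2, add_zero]⟩

/-- Epimorphisms of sheaves of modules are locally surjective. -/
theorem exists_local_lift {M N : SheafOfModules.{w} R} (g : M ⟶ N) [Epi g] {X : C}
    (y : N.val.obj (op X)) : ∃ S ∈ J X, ∀ ⦃Y : C⦄ (v : Y ⟶ X), S.arrows v →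
      ∃ p, g.val.app (op Y) p = N.val.map v.op y := by
  let g' := (SheafOfModules.forget R).map g
  let P := cokernel g'
  have hz : IsZero ((shfR R).obj P) := by
    haveI : Epi ((shfR R).map g') := by
      have e := (PresheafOfModules.sheafificationAdjunction (𝟙 R.obj)).counit.naturality g
      haveI : Epi (((SheafOfModules.forget R ⋙ PresheafOfModules.restrictScalars (𝟙 R.obj)) ⋙ shfR R).map g) := by
        have : ((SheafOfModules.forget R ⋙ PresheafOfModules.restrictScalars (𝟙 R.obj)) ⋙ shfR R).map g =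
            (PresheafOfModules.sheafificationAdjunction (𝟙 R.obj)).counit.app M ≫ g ≫
              inv ((PresheafOfModules.sheafificationAdjunction (𝟙 R.obj)).counit.app N) := by
          rw [← Category.assoc, IsIso.eq_comp_inv]
          exact e
        rw [this]
        infer_instance
      exact this
    exact IsZero.of_iso (isZero_cokernel_of_epi _) (PreservesCokernel.iso (shfR R) g')
  let ψ := CategoryTheory.toSheafify J P.presheaf
  have h0 : 𝟙 ((shfR R).obj P) = 0 := hz.eq_of_src _ _
  have hy : ψ.app (op X) ((cokernel.π g').app (op X) y) = ψ.app (op X) 0 := by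
    refine Eq.trans ?_ (map_zero (ψ.app (op X)).hom).symm
    exact congrArg (fun (φ : (shfR R).obj P ⟶ (shfR R).obj P) =>
      φ.val.app (op X) (ψ.app (op X) ((cokernel.π g').app (op X) y))) h0
  refine ⟨_, Presheaf.equalizerSieve_mem J ψ _ _ hy, fun Y v hv => ?_⟩
  let E := PresheafOfModules.evaluation.{w} R.obj (op Y)
  have hv' : (cokernel.π g').app (op Y) (N.val.map v.op y) = 0 := by
    refine (NatTrans.naturality_apply ((PresheafOfModules.toPresheaf _).map (cokernel.π g')) v.op y).trans ?_
    exact hv.trans (map_zero (P.presheaf.map v.op).hom)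
  have hex : ((ShortComplex.mk g' (cokernel.π g') (cokernel.condition g')).map E).Exact :=
    (ShortComplex.exact_cokernel g').map_of_epi_of_preservesCokernel E inferInstance inferInstance
  exact (ShortComplex.moduleCat_exact_iff _).1 hex (show (E.obj N.val) from N.val.map v.op y) hv'

end Sh

end Groth.Agent.AlgSpShriek
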