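import Groth.Agent.DCohLib.SPerf

/-! Vanishing of maps out of bounded complexes with terms in a given class. -/

set_option autoImplicit false
set_option linter.style.haveILetI false
set_option backward.isDefEq.respectTransparency false
set_option maxHeartbeats 1000000

universe w v u

open CategoryTheory CategoryTheory.Limits DerivedCategory Pretriangulated
open Groth.Agent.DCohLib

noncomputable section

namespace Groth.Agent.AlgSpShriek

variable {A : Type u} [Category.{v} A] [Abelian A] [HasDerivedCategory.{w} A]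

/-- Maps out of the middle term vanish if they do on the outer ones. -/
theorem eq_zero_of_ses {S : ShortComplex (CochainComplex A ℤ)} (hS : S.ShortExact) {Z : DerivedCategory A}
    (h₁ : ∀ φ : Q.obj S.X₁ ⟶ Z, φ = 0) (h₃ : ∀ φ : Q.obj S.X₃ ⟶ Z, φ = 0) (φ : Q.obj S.X₂ ⟶ Z) : φ = 0 := by
  obtain ⟨ψ, hψ⟩ := Triangle.yoneda_exact₂ _ (triangleOfSES_distinguished hS) φ (h₁ _)
  rw [hψ, h₃ ψ]
  exact comp_zero

/-- Maps out of the third term vanish if they do on the second and the shifted first. -/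
theorem eq_zero_of_ses₃ {S : ShortComplex (CochainComplex A ℤ)} (hS : S.ShortExact) {Z : DerivedCategory A}
    (h₂ : ∀ φ : Q.obj S.X₂ ⟶ Z, φ = 0) (h₁ : ∀ φ : (Q.obj S.X₁)⟦(1 : ℤ)⟧ ⟶ Z, φ = 0) (φ : Q.obj S.X₃ ⟶ Z) :
    φ = 0 := by
  obtain ⟨ψ, hψ⟩ := Triangle.yoneda_exact₃ _ (triangleOfSES_distinguished hS) φ (h₂ _)
  rw [hψ, h₁ ψ]
  exact comp_zero

theorem eq_zero_of_zero {C : CochainComplex A ℤ} (h : ∀ n, IsZero (C.X n)) {Z : DerivedCategory A}
    (φ : Q.obj C ⟶ Z) : φ = 0 := by
  have hC : IsZero C := (IsZero.iff_id_eq_zero _).2 (HomologicalComplex.hom_ext _ _ fun n => (h n).eq_of_src _ _)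
  exact (Functor.map_isZero Q hC).eq_of_src _ _

/-- Maps out of a bounded complex vanish if they vanish on its terms. -/
theorem eq_zero_of_bounded {Z : DerivedCategory A} : ∀ (k : ℕ) (a : ℤ) (C : CochainComplex A ℤ),
    (∀ i, i < a ∨ a + k ≤ i → IsZero (C.X i)) →
    (∀ i, a ≤ i → i < a + k → ∀ φ : Q.obj ((HomologicalComplex.single A (ComplexShape.up ℤ) i).obj (C.X i)) ⟶ Z, φ = 0) →
    ∀ φ : Q.obj C ⟶ Z, φ = 0
  | 0, a, C, h, _, φ => eq_zero_of_zero (fun i => h i (by omega)) φ
  | k + 1, a, C, h, hterm, φ => by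
    let B := brutalGE C (a + 1)
    have hg : ∀ i, (ComplexShape.up ℤ).Rel i a → C.d i a ≫ 𝟙 (C.X a) = 0 := fun i hi => by
      have hi' : i + 1 = a := hi
      exact (h i (by omega)).eq_of_src _ _
    let g := HomologicalComplex.mkHomToSingle (𝟙 (C.X a)) hg
    have hfg : brutalGEι C (a + 1) ≫ g = 0 := HomologicalComplex.hom_ext _ _ fun i => by
      rcases eq_or_ne i a with rfl | hi
      · exact (isZero_brutalGE_X C (i + 1) i (by omega)).eq_of_src _ _
      · exact (HomologicalComplex.isZero_single_obj_X _ _ _ _ hi).eq_of_tgt _ _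
    have hS : (ShortComplex.mk (brutalGEι C (a + 1)) g hfg).ShortExact := by
      refine HomologicalComplex.shortExact_of_degreewise_shortExact _ fun q => ShortComplex.Splitting.shortExact ?_
      by_cases hq : q = a
      · subst hq
        refine ShortComplex.Splitting.ofIsZeroOfIsIso _ (isZero_brutalGE_X C (q + 1) q (by omega)) ?_
        show IsIso (g.f q)
        rw [HomologicalComplex.mkHomToSingle_f]
        infer_instance
      · refine ShortComplex.Splitting.ofIsIsoOfIsZero _ ?_
          (HomologicalComplex.isZero_single_obj_X (ComplexShape.up ℤ) a (C.X a) q hq)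
        show IsIso ((brutalGEι C (a + 1)).f q)
        by_cases hq' : a + 1 ≤ q
        · exact isIso_brutalGEι_f C (a + 1) q hq'
        · exact ⟨0, (isZero_brutalGE_X C (a + 1) q (by omega)).eq_of_src _ _, (h q (by omega)).eq_of_src _ _⟩
    refine eq_zero_of_ses hS (eq_zero_of_bounded k (a + 1) B (fun i hi => ?_) fun i hi hi' ψ => ?_)
      (hterm a le_rfl (by omega)) φ
    · rcases hi with hi | hi
      · exact isZero_brutalGE_X C (a + 1) i hi
      · exact IsZero.of_mono ((brutalGEι C (a + 1)).f i) (h i (by omega))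
    · haveI := isIso_brutalGEι_f C (a + 1) i hi
      let e := Q.mapIso ((HomologicalComplex.single A (ComplexShape.up ℤ) i).mapIso (asIso ((brutalGEι C (a + 1)).f i)))
      rw [← cancel_epi e.inv, comp_zero]
      exact hterm i (by omega) (by omega) _

/-- Retracts inherit vanishing. -/
theorem eq_zero_of_retract {M N : A} (q : ℤ) (i : M ⟶ N) (p : N ⟶ M) (hip : i ≫ p = 𝟙 M) {Z : DerivedCategory A}
    (h : ∀ φ : Q.obj ((HomologicalComplex.single A (ComplexShape.up ℤ) q).obj N) ⟶ Z, φ = 0)
    (φ : Q.obj ((HomologicalComplex.single A (ComplexShape.up ℤ) q).obj M) ⟶ Z) : φ = 0 := by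
  let F := HomologicalComplex.single A (ComplexShape.up ℤ) q ⋙ Q
  calc φ = F.map (𝟙 M) ≫ φ := by rw [F.map_id]; exact (Category.id_comp φ).symm
    _ = F.map i ≫ F.map p ≫ φ := by rw [← hip, F.map_comp, Category.assoc]
    _ = 0 := (congrArg (F.map i ≫ ·) (h (F.map p ≫ φ))).trans comp_zero

end Groth.Agent.AlgSpShriek
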