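import Groth.Agent.AlgSpShriek.Window
import Groth.Agent.SiteBase.ModCoh

/-! Cohomology of quasi-coherent modules vanishes in large degrees. -/

set_option autoImplicit false
set_option linter.style.haveILetI false
set_option linter.unusedSectionVars false
set_option backward.isDefEq.respectTransparency false
set_option backward.isDefEq.respectTransparency.types false
set_option maxHeartbeats 1000000
set_option synthInstance.maxHeartbeats 400000

universe u

open CategoryTheory Limits AlgebraicGeometry Opposite Abelian DerivedCategory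
open Groth.Agent.AlgSpQC Groth.Agent.AlgSpFT Groth.Agent.RlimCrit Groth.Agent.AlgSpRlim Groth.Agent.CohColim

attribute [local instance] HasDerivedCategory.standard

noncomputable section

namespace Groth.Agent.AlgSpShriek

variable {S : Scheme.{u}} {X : AlgSp.Sp S}

/-- The constant sheaves on the small model. -/
def constIso : (sh X).obj ((constantSheaf (AlgSp.etTop X) AddCommGrpCat.{u + 1}).obj (AddCommGrpCat.of (ULift.{u + 1} ℤ))) ≅
    (constantSheaf (Js X) AddCommGrpCat.{u + 1}).obj (AddCommGrpCat.of (ULift.{u + 1} ℤ)) :=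
  haveI := isDenseSubsite_functor X
  (((eqv X).functor.pushforwardContinuousSheafificationCompatibility AddCommGrpCat.{u + 1} (Js X) (AlgSp.etTop X)).app
    ((Functor.const (AlgSp.EtOver X)ᵒᵖ).obj (AddCommGrpCat.of (ULift.{u + 1} ℤ)))).symm

/-- Vanishing of extensions out of the structure sheaf gives vanishing of cohomology. -/
theorem subsingleton_HModEt_of_ext [HasExt.{u + 1} (AlgSp.ModEt X)] (M : AlgSp.ModEt X) (n : ℕ)
    (h : Subsingleton (Ext.{u + 1} (AlgSp.unitModEt X) M n)) : Subsingleton (AlgSp.HModEt X M n) := by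
  haveI : IsGrothendieckAbelian.{u + 1} (ModSite.Mod (Os X)) := ModTensor.isGrothendieckAbelian_mod _
  haveI : HasExt.{u + 1} (ModSite.Mod (Os X)) := inferInstance
  haveI : Subsingleton (Ext.{u + 1} ((modEquiv X).functor.obj (AlgSp.unitModEt X)) ((modEquiv X).functor.obj M) n) :=
    (bijective_mapExt_of_isEquivalence (modEquiv X).functor (AlgSp.unitModEt X) M n).2.subsingleton
  obtain ⟨e⟩ := SiteBase.nonempty_ext_unit_H (ModSite.ringSh (Os X)) ((modEquiv X).functor.obj M) n
  haveI : (sh X).IsEquivalence := inferInstance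
  haveI : (sh X).Additive := Functor.additive_of_preserves_binary_products _
  let cZ := (constantSheaf (AlgSp.etTop X) AddCommGrpCat.{u + 1}).obj (AddCommGrpCat.of (ULift.{u + 1} ℤ))
  haveI : Subsingleton (Ext.{u + 1} ((constantSheaf (Js X) AddCommGrpCat.{u + 1}).obj (AddCommGrpCat.of (ULift.{u + 1} ℤ)))
      ((sh X).obj ((AlgSp.toAbEt X).obj M)) n) :=
    haveI : Subsingleton (Ext.{u + 1} (SheafOfModules.unit (ModSite.ringSh (Os X))) ((modEquiv X).functor.obj M) n) :=
      ‹Subsingleton (Ext.{u + 1} ((modEquiv X).functor.obj (AlgSp.unitModEt X)) ((modEquiv X).functor.obj M) n)›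
    e.toEquiv.symm.subsingleton
  haveI : Subsingleton (Ext.{u + 1} ((sh X).obj cZ) ((sh X).obj ((AlgSp.toAbEt X).obj M)) n) :=
    Function.Injective.subsingleton (f := fun x => (Ext.mk₀ (constIso (X := X)).inv).comp x (zero_add n))
      fun x y h => by simpa [cZ] using congrArg (fun z => (Ext.mk₀ (constIso (X := X)).hom).comp z (zero_add n)) h
  exact (bijective_mapExt_of_isEquivalence (sh X) cZ ((AlgSp.toAbEt X).obj M) n).1.subsingleton

/-- The structure sheaf is perfect. -/
theorem isPerfectEtD_unit : AlgSp.IsPerfectEtD (DCoh.inDMod (AlgSp.OEtRing X) (AlgSp.unitModEt X)) := fun U =>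
  ⟨PUnit.{u + 2}, fun _ => U, fun _ => 𝟙 U, by
    rw [AlgSp.ofArrows_mem_etPre_iff]
    exact fun x => ⟨⟨⟩, x, rfl⟩, fun _ => by
    let O := SheafOfModules.unit (AlgSp.OEtOn U)
    refine ⟨(HomologicalComplex.single (AlgSp.ModEtOn U) (ComplexShape.up ℤ) 0).obj O, ⟨⟨0, 0, fun i hi =>
      HomologicalComplex.isZero_single_obj_X _ _ _ _ (by omega)⟩, fun i => ?_⟩, ⟨?_⟩⟩
    · rcases eq_or_ne i 0 with rfl | hi
      · refine ⟨1, (HomologicalComplex.singleObjXSelf _ 0 O).hom ≫ Sigma.ι (fun _ : ULift.{u + 1} (Fin 1) => O) ⟨0⟩,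
          Sigma.desc (fun _ => (HomologicalComplex.singleObjXSelf _ 0 O).inv), ?_⟩
        show (_ ≫ Limits.Sigma.ι _ _) ≫ Limits.Sigma.desc _ = _
        rw [Category.assoc, Sigma.ι_desc, Iso.hom_inv_id]
      · have hz := HomologicalComplex.isZero_single_obj_X (ComplexShape.up ℤ) 0 O i hi
        exact ⟨0, 0, 0, hz.eq_of_src _ _⟩
    · exact ((AlgSp.resModEt U).mapDerivedCategorySingleFunctor 0).app (AlgSp.unitModEt X) ≪≫
        (singleFunctorIsoCompQ (AlgSp.ModEtOn U) 0).app O⟩

theorem qcD_single {M : AlgSp.ModEt X} (hM : M.IsQuasicoherent) :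
    DCoh.IsQCohDMod (AlgSp.OEtRing X) (DCoh.inDMod (AlgSp.OEtRing X) M) := fun i => by
  rcases eq_or_ne i 0 with rfl | hi
  · exact (SheafOfModules.isQuasicoherent (AlgSp.OEtRing X)).prop_of_iso
      ((singleFunctorCompHomologyFunctorIso (AlgSp.ModEt X) 0).app M).symm hM
  · refine (isQuasicoherent_iff _).2 (qc_of_isZero ((isQuasicoherent_iff _).1 hM) ?_)
    rcases lt_or_gt_of_ne hi with h | h
    · exact isZero_of_isGE _ 0 i h
    · exact isZero_of_isLE _ 0 i h

theorem exists_bound [QuasiSeparatedSpace ↥S] (X : AlgSp.Space S) (hqc : AlgSp.IsQuasiCompactSp X.obj)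
    (hqs : AlgSp.IsQuasiSeparatedSp X.obj) :
    ∃ n : ℕ, ∀ (M : AlgSp.ModEt X.obj), M.IsQuasicoherent → ∀ q : ℕ, n ≤ q →
      Subsingleton (AlgSp.HModEt X.obj M q) := by
  obtain ⟨b, hb⟩ := exists_vanishing X hqc hqs (isPerfectEtD_unit (X := X.obj))
  haveI := hasExt_modEt X.obj
  refine ⟨(-b).toNat, fun M hM q hq => subsingleton_HModEt_of_ext M q ?_⟩
  have key : ∀ ψ : DCoh.inDMod (AlgSp.OEtRing X.obj) (AlgSp.unitModEt X.obj) ⟶
      (DCoh.inDMod (AlgSp.OEtRing X.obj) M)⟦(q : ℤ)⟧, ψ = 0 := fun ψ =>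
    hb _ (qcD_shift (qcD_single hM) q) (isLE_shiftG _ 0 q b (by omega)) ψ
  exact ⟨fun x y => (Ext.homEquiv (X := AlgSp.unitModEt X.obj) (Y := M) (n := q)).injective
    ((key _).trans (key _).symm)⟩

end Groth.Agent.AlgSpShriek
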