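import Mathlib

/-!
# Extension by zero along a presheaf of sets
-/

set_option autoImplicit false
set_option linter.style.haveILetI false
set_option linter.unusedSectionVars false
set_option backward.isDefEq.respectTransparency false
set_option backward.isDefEq.respectTransparency.types false

universe w v u u'

open CategoryTheory Limits Opposite DirectSum

noncomputable section

namespace Groth.Agent.AlgSpShriek

variable {C : Type u} [Category.{v} C] (H : Cᵒᵖ ⥤ Type w) {R : Cᵒᵖ ⥤ RingCat.{w}}

/-- Objects with an element of the presheaf of sets. -/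
abbrev El : Type (max u w) := H.Elementsᵒᵖ

/-- The underlying object. -/
abbrev elπ : El H ⥤ C := (CategoryOfElements.π H).leftOp

/-- The rings on the elements. -/
abbrev elR (R : Cᵒᵖ ⥤ RingCat.{w}) : (El H)ᵒᵖ ⥤ RingCat.{w} := (elπ H).op ⋙ R

/-- An element as an object. -/
abbrev mkEl {V : C} (x : H.obj (op V)) : El H := op (Functor.elementsMk H (op V) x)

/-- A morphism of elements. -/
def homEl {V W : C} {x : H.obj (op V)} {y : H.obj (op W)} (g : W ⟶ V) (h : H.map g.op x = y) :
    mkEl H y ⟶ mkEl H x :=
  (CategoryOfElements.homMk (Functor.elementsMk H (op V) x) (Functor.elementsMk H (op W) y) g.op h).op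

variable (G : PresheafOfModules.{w} (elR H R))

/-- The value at an element. -/
abbrev fib (V : C) (x : H.obj (op V)) : ModuleCat.{w} (R.obj (op V)) := G.obj (op (mkEl H x))

/-- Restriction between values. -/
def gmap {V W : C} {x : H.obj (op V)} {y : H.obj (op W)} (g : W ⟶ V) (h : H.map g.op x = y) :
    fib H G V x →+ fib H G W y :=
  (G.presheaf.map (homEl H g h).op).hom

theorem gmap_smul {V W : C} {x : H.obj (op V)} {y : H.obj (op W)} (g : W ⟶ V) (h : H.map g.op x = y)
    (r : R.obj (op V)) (a : fib H G V x) : gmap H G g h (r • a) = R.map g.op r • gmap H G g h a :=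
  PresheafOfModules.map_smul G (homEl H g h).op r a

theorem gmap_id {V : C} {x : H.obj (op V)} (h : H.map (𝟙 V).op x = x) (a : fib H G V x) :
    gmap H G (𝟙 V) h a = a := by
  have e : homEl H (𝟙 V) h = 𝟙 (mkEl H x) := Quiver.Hom.unop_inj (CategoryOfElements.ext _ _ _ rfl)
  show (G.presheaf.map (homEl H (𝟙 V) h).op).hom a = a
  rw [e]
  exact congr($(G.presheaf.map_id _) a)

theorem gmap_gmap {U V W : C} {x : H.obj (op U)} {y : H.obj (op V)} {z : H.obj (op W)} (g : V ⟶ U)
    (hg : H.map g.op x = y) (k : W ⟶ V) (hk : H.map k.op y = z) (hkg : H.map (k ≫ g).op x = z)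
    (a : fib H G U x) : gmap H G k hk (gmap H G g hg a) = gmap H G (k ≫ g) hkg a := by
  have e : homEl H (k ≫ g) hkg = homEl H k hk ≫ homEl H g hg := Quiver.Hom.unop_inj (CategoryOfElements.ext _ _ _ rfl)
  show _ = (G.presheaf.map (homEl H (k ≫ g) hkg).op).hom a
  rw [e]
  exact (congr($(G.presheaf.map_comp (homEl H g hg).op (homEl H k hk).op) a)).symm

/-- The sum of the values. -/
abbrev Tot (V : C) : Type w := ⨁ x : H.obj (op V), fib H G V x

open scoped Classical in
/-- The inclusion of a summand. -/
def ι (V : C) (x : H.obj (op V)) : fib H G V x →+ Tot H G V :=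
  DirectSum.of (fun y : H.obj (op V) => fib H G V y) x

theorem ι_congr {V W : C} {x : H.obj (op V)} {y y' : H.obj (op W)} (g g' : W ⟶ V) (hg : g = g')
    (h : H.map g.op x = y) (h' : H.map g'.op x = y') (a : fib H G V x) :
    ι H G W y (gmap H G g h a) = ι H G W y' (gmap H G g' h' a) := by
  subst hg
  subst h
  subst h'
  rfl

theorem ι_smul (V : C) (x : H.obj (op V)) (r : R.obj (op V)) (a : fib H G V x) :
    ι H G V x (r • a) = r • ι H G V x a := by
  classical
  exact DirectSum.of_smul (R := R.obj (op V)) (M := fun y : H.obj (op V) => (fib H G V y : Type w)) x r a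

open scoped Classical in
/-- Restriction of sums. -/
def resTot {V W : C} (g : W ⟶ V) : Tot H G V →+ Tot H G W :=
  DirectSum.toAddMonoid fun x => (ι H G W (H.map g.op x)).comp (gmap H G g rfl)

theorem resTot_ι {V W : C} (g : W ⟶ V) (x : H.obj (op V)) {y : H.obj (op W)} (h : H.map g.op x = y)
    (a : fib H G V x) : resTot H G g (ι H G V x a) = ι H G W y (gmap H G g h a) := by
  classical
  refine Eq.trans (DirectSum.toAddMonoid_of (fun x => (ι H G W (H.map g.op x)).comp (gmap H G g rfl)) x a) ?_
  exact ι_congr H G g g rfl rfl h a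

theorem tot_ext {V : C} {A : Type*} [AddCommMonoid A] {f f' : Tot H G V →+ A}
    (h : ∀ x a, f (ι H G V x a) = f' (ι H G V x a)) : f = f' := by
  classical
  exact DirectSum.addHom_ext h

@[elab_as_elim]
theorem tot_induction {V : C} {P : Tot H G V → Prop} (m : Tot H G V) (h0 : P 0) (hι : ∀ x a, P (ι H G V x a))
    (hadd : ∀ m m', P m → P m' → P (m + m')) : P m := by
  classical
  induction m using DirectSum.induction_on with
  | zero => exact h0
  | of x a => exact hι x a
  | add a b ha hb => exact hadd a b ha hb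

theorem resTot_smul {V W : C} (g : W ⟶ V) (r : R.obj (op V)) (m : Tot H G V) :
    resTot H G g (r • m) = R.map g.op r • resTot H G g m := by
  induction m using tot_induction with
  | h0 => simp
  | hadd a b ha hb => simp only [smul_add, map_add, ha, hb]
  | hι x a => rw [← ι_smul, resTot_ι H G g x rfl, resTot_ι H G g x rfl, gmap_smul, ι_smul]

theorem resTot_id (V : C) : resTot H G (𝟙 V) = AddMonoidHom.id _ := by
  refine tot_ext H G fun x a => ?_
  rw [resTot_ι H G (𝟙 V) x (show H.map (𝟙 V).op x = x by simp), gmap_id]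
  rfl

theorem resTot_comp {U V W : C} (g : V ⟶ U) (k : W ⟶ V) :
    resTot H G (k ≫ g) = (resTot H G k).comp (resTot H G g) := by
  refine tot_ext H G fun x a => ?_
  have h : H.map (k ≫ g).op x = H.map k.op (H.map g.op x) := by simp
  rw [resTot_ι H G (k ≫ g) x h, AddMonoidHom.comp_apply, resTot_ι H G g x rfl, resTot_ι H G k _ rfl,
    gmap_gmap H G g rfl k rfl h]

/-- The underlying presheaf of groups. -/
def totAb : Cᵒᵖ ⥤ AddCommGrpCat.{w} where
  obj V := AddCommGrpCat.of (Tot H G V.unop)
  map g := AddCommGrpCat.ofHom (resTot H G g.unop)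
  map_id V := AddCommGrpCat.hom_ext (resTot_id H G V.unop)
  map_comp g k := AddCommGrpCat.hom_ext (resTot_comp H G g.unop k.unop)

instance moduleTotAb (V : Cᵒᵖ) : Module (R.obj V) ((totAb H G).obj V) :=
  inferInstanceAs (Module (R.obj (op V.unop)) (Tot H G V.unop))

/-- Extension by zero along a presheaf of sets. -/
def gObj : PresheafOfModules.{w} R :=
  PresheafOfModules.ofPresheaf (totAb H G) fun _ _ g r m => resTot_smul H G g.unop r m

theorem gObj_map {V W : C} (g : W ⟶ V) (m : Tot H G V) : (gObj H G).map g.op m = resTot H G g m := rfl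

variable {H G}
variable {G' G'' : PresheafOfModules.{w} (elR H R)}

open scoped Classical in
/-- Functoriality on sums. -/
def mapTot (f : G ⟶ G') (V : C) : Tot H G V →+ Tot H G' V :=
  DFinsupp.mapRange.addMonoidHom fun x => (f.app (op (mkEl H x))).hom.toAddMonoidHom

theorem mapTot_apply (f : G ⟶ G') (V : C) (m : Tot H G V) (x : H.obj (op V)) :
    mapTot f V m x = f.app (op (mkEl H x)) (m x) := rfl

theorem mapTot_ι (f : G ⟶ G') (V : C) (x : H.obj (op V)) (a : fib H G V x) :
    mapTot f V (ι H G V x a) = ι H G' V x (f.app (op (mkEl H x)) a) := by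
  classical
  exact DFinsupp.mapRange_single (hf := fun x => map_zero _)

theorem app_gmap (f : G ⟶ G') {V W : C} {x : H.obj (op V)} {y : H.obj (op W)} (g : W ⟶ V)
    (h : H.map g.op x = y) (a : fib H G V x) :
    f.app (op (mkEl H y)) (gmap H G g h a) = gmap H G' g h (f.app (op (mkEl H x)) a) :=
  PresheafOfModules.naturality_apply f (homEl H g h).op a

/-- Functoriality. -/
def gMap (f : G ⟶ G') : gObj H G ⟶ gObj H G' :=
  PresheafOfModules.homMk
    { app := fun V => AddCommGrpCat.ofHom (mapTot f V.unop)
      naturality := fun V W g => by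
        refine AddCommGrpCat.hom_ext (tot_ext H G fun x a => ?_)
        show mapTot f W.unop (resTot H G g.unop (ι H G V.unop x a)) =
          resTot H G' g.unop (mapTot f V.unop (ι H G V.unop x a))
        rw [resTot_ι H G g.unop x rfl, mapTot_ι, mapTot_ι, resTot_ι H G' g.unop x rfl, app_gmap] }
    (fun V r m => by
      refine DFinsupp.ext fun x => ?_
      exact (f.app (op (mkEl H x))).hom.map_smul r _)

theorem gMap_app (f : G ⟶ G') (V : C) (m : Tot H G V) : (gMap f).app (op V) m = mapTot f V m := rfl

variable (H R)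

/-- Extension by zero along a presheaf of sets, as a functor. -/
def gFun : PresheafOfModules.{w} (elR H R) ⥤ PresheafOfModules.{w} R where
  obj := gObj H
  map f := gMap f
  map_id G := PresheafOfModules.hom_ext fun V => ModuleCat.hom_ext (LinearMap.ext fun m => DFinsupp.ext fun x => rfl)
  map_comp f g := PresheafOfModules.hom_ext fun V => ModuleCat.hom_ext (LinearMap.ext fun m => DFinsupp.ext fun x => rfl)

instance : (gFun H R).Additive where
  map_add := PresheafOfModules.hom_ext fun V => ModuleCat.hom_ext (LinearMap.ext fun m => DFinsupp.ext fun x => rfl)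

variable {H R}

theorem exact_iff_eval {D : Type u'} [Category.{v} D] {R' : Dᵒᵖ ⥤ RingCat.{w}}
    (S : ShortComplex (PresheafOfModules.{w} R')) :
    S.Exact ↔ ∀ X, (S.map (PresheafOfModules.evaluation R' X)).Exact := by
  refine ⟨fun h X => h.map _, fun h => ?_⟩
  rw [ShortComplex.exact_iff_isZero_homology]
  refine (IsZero.iff_id_eq_zero _).2 (PresheafOfModules.hom_ext fun X => ?_)
  exact (((ShortComplex.exact_iff_isZero_homology _).1 (h X)).of_iso
    (S.mapHomologyIso (PresheafOfModules.evaluation R' X)).symm).eq_of_src _ _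

theorem exact_gFun (S : ShortComplex (PresheafOfModules.{w} (elR H R))) (hS : S.Exact) :
    (S.map (gFun H R)).Exact := by
  rw [exact_iff_eval]
  intro V
  induction V with
  | op V =>
  rw [ShortComplex.moduleCat_exact_iff]
  intro m hm
  classical
  have hS' : ∀ x : H.obj (op V), ∃ b : fib H S.X₁ V x, S.f.app (op (mkEl H x)) b = (show Tot H S.X₂ V from m) x :=
    fun x => (ShortComplex.moduleCat_exact_iff _).1
      ((exact_iff_eval _).1 hS (op (mkEl H x))) _ (congrArg (fun t : Tot H S.X₃ V => t x) hm)
  choose b hb using hS'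
  let m' : Tot H S.X₂ V := m
  refine ⟨(DFinsupp.mk m'.support fun x => b x.1 : Tot H S.X₁ V), ?_⟩
  refine DFinsupp.ext fun x => ?_
  show S.f.app (op (mkEl H x)) ((DFinsupp.mk m'.support fun x => b x.1 : Tot H S.X₁ V) x) = m' x
  by_cases hx : x ∈ m'.support
  · refine Eq.trans (congrArg _ ?_) (hb x)
    exact DFinsupp.mk_of_mem hx
  · rw [show (DFinsupp.mk m'.support fun x => b x.1 : Tot H S.X₁ V) x = 0 from DFinsupp.mk_of_notMem hx, map_zero]
    exact (DFinsupp.notMem_support_iff.1 hx).symm

instance preservesFiniteLimits_gFun : PreservesFiniteLimits (gFun H R) :=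
  have h : PreservesFiniteLimits (gFun H R) ∧ PreservesFiniteColimits (gFun H R) :=
    ((Functor.exact_tfae (gFun H R)).out 1 3).mp fun S hS => exact_gFun S hS
  h.1

end Groth.Agent.AlgSpShriek
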