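import Groth.Agent.AlgSpShriek.Quot
import Groth.Agent.StratX.Main
import Groth.Agent.S0411
import Groth.Agent.AlgSpRlim.RF
import Groth.Agent.ASp.ValExist

/-! Maps out of perfect objects into quasi-coherent objects of low degree vanish. -/

set_option autoImplicit false
set_option linter.style.haveILetI false
set_option linter.unusedSectionVars false
set_option backward.isDefEq.respectTransparency false
set_option backward.isDefEq.respectTransparency.types false
set_option maxHeartbeats 1000000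
set_option synthInstance.maxHeartbeats 400000

universe u

open CategoryTheory Limits AlgebraicGeometry Opposite DerivedCategory
open Groth.Agent.AlgSpQC Groth.Agent.AlgSpFT Groth.Agent.RlimCrit Groth.Agent.AlgSpRlim
open Groth.Agent.StratX (Univ IsTup Agree img agree_comp exists_clopen)

attribute [local instance] HasDerivedCategory.standard

noncomputable section

namespace Groth.Agent.AlgSpShriek

variable {S : Scheme.{u}} {X : AlgSp.Sp S}

/-- Factorization through an open immersion between objects. -/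
theorem exists_lift_imm {F Z E : AlgSp.EtOver X} (j : Z ⟶ E) [IsOpenImmersion (ptMap j)] (ψ : F ⟶ E)
    (h : Set.range (ptMap ψ) ⊆ Set.range (ptMap j)) : ∃ l : F ⟶ Z, l ≫ j = ψ := by
  let l₀ := IsOpenImmersion.lift (ptMap j) (ptMap ψ) h
  have hl : l₀ ≫ ptMap j = ptMap ψ := IsOpenImmersion.lift_fac _ _ _
  let l₁ : F.obj.left ⟶ Z.obj.left := Over.homMk l₀ (by
    refine Eq.trans ?_ (Over.w ψ.hom.left)
    show l₀ ≫ Z.obj.left.hom = ptMap ψ ≫ E.obj.left.hom
    rw [← hl, Category.assoc]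
    exact congrArg (l₀ ≫ ·) (Over.w j.hom.left).symm)
  have hl₁ : l₁ ≫ j.hom.left = ψ.hom.left := Over.OverMorphism.ext hl
  refine ⟨AlgSp.EtOver.homMk l₁ ?_, hom_ext_pt _ _ hl⟩
  rw [← AlgSp.EtOver.w j, ← Functor.map_comp_assoc, hl₁, AlgSp.EtOver.w]

/-- Points under an object. -/
def ptX (E : AlgSp.EtOver X) (t : ↥(pts E)) : AlgSp.Points X := AlgSp.Points.ofPt E.obj.hom t

theorem ptX_comp {E E' : AlgSp.EtOver X} (g : E ⟶ E') (t : ↥(pts E)) : ptX E' (ptMap g t) = ptX E t := by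
  show _ = AlgSp.Points.ofPt E.obj.hom t
  rw [← AlgSp.EtOver.w g, ASp.ofPt_yon_map_comp]
  rfl

/-- Objects landing in a set of points. -/
def pX (O : Set (AlgSp.Points X)) (E : AlgSp.EtOver X) (_ : (topH : (AlgSp.EtOver X)ᵒᵖ ⥤ Type (u + 1)).obj (op E)) :
    Prop := ∀ t, ptX E t ∈ O

theorem pX_res (O : Set (AlgSp.Points X)) {E E' : AlgSp.EtOver X} (g : E' ⟶ E)
    (x : (topH : (AlgSp.EtOver X)ᵒᵖ ⥤ Type (u + 1)).obj (op E)) (h : pX O E x) : pX O E' (topH.map g.op x) :=
  fun t => ptX_comp g t ▸ h _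

/-- The presheaf of objects landing in a set of points. -/
abbrev landX (O : Set (AlgSp.Points X)) : (AlgSp.EtOver X)ᵒᵖ ⥤ Type (u + 1) :=
  subH topH (pX O) fun g x h => pX_res O g x h

section Strata

variable {V : Over S} (a : (AlgSp.yon S).obj V ⟶ X) (ha : AlgSp.RepWith @Etale a)

/-- The scheme of tuples as an object of the site. -/
abbrev tupObj {n : ℕ} (U : Univ a n) : AlgSp.EtOver X :=
  AlgSp.EtOver.mk ((AlgSp.yon S).map (U.x 0) ≫ a)
    (ASp.repWith_comp (P := @Etale) (ASp.repWith_yon_map (P := @Etale) U.etale_zero) ha)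

/-- The first projection of the tuples. -/
abbrev tupHom {n : ℕ} (U : Univ a n) : tupObj a ha U ⟶ AlgSp.EtOver.mk a ha := AlgSp.EtOver.homMk (U.x 0) rfl

variable {a} {n : ℕ} (U : Univ a n)

theorem exists_act : ∃ act : GAct (tupObj a ha U) (Equiv.Perm (Fin (n + 1))),
    ∀ g i, (act.r g).hom.left ≫ U.x i = U.x (g.symm i) := by
  have hperm : ∀ σ : Equiv.Perm (Fin (n + 1)), IsTup a fun i => U.x (σ i) := fun σ =>
    ⟨fun i j => U.isTup.over _ _, fun i j hij => U.isTup.disj _ _ fun e => hij (σ.injective e)⟩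
  choose r hr using fun σ : Equiv.Perm (Fin (n + 1)) => U.exists_lift (hperm σ.symm)
  have hmul : ∀ σ τ, r τ ≫ r σ = r (σ * τ) := fun σ τ => U.hom_ext _ _ fun i => by
    rw [Category.assoc, hr, hr, hr]; rfl
  have hone : r 1 = 𝟙 _ := U.hom_ext _ _ fun i => by rw [hr, Category.id_comp]; rfl
  have hw : ∀ σ, (AlgSp.yon S).map (r σ) ≫ (AlgSp.yon S).map (U.x 0) ≫ a = (AlgSp.yon S).map (U.x 0) ≫ a := fun σ => by
    rw [← Functor.map_comp_assoc, hr]
    exact U.isTup.over _ _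
  exact ⟨⟨fun σ => AlgSp.EtOver.homMk (r σ) (hw σ), AlgSp.EtOver.hom_ext _ _ hone,
    fun g h => AlgSp.EtOver.hom_ext _ _ (hmul h g)⟩, fun g i => hr g i⟩

variable {U}

theorem free_act {act : GAct (tupObj a ha U) (Equiv.Perm (Fin (n + 1)))}
    (hact : ∀ g i, (act.r g).hom.left ≫ U.x i = U.x (g.symm i)) : Free act := by
  intro L _ s g h e
  refine Equiv.symm_bijective.injective (Equiv.ext fun i => ?_)
  by_contra hne
  let k : Over.mk (s ≫ U.W.hom) ⟶ U.W := Over.homMk s rfl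
  have e' : k ≫ U.x (g.symm i) = k ≫ U.x (h.symm i) := by
    rw [← hact, ← hact]
    refine Over.OverMorphism.ext ?_
    have := congrArg (· ≫ (U.x i).left) e
    simp only [Category.assoc] at this
    exact this
  refine U.isTup.disj _ _ hne _ ((agree_comp k _ _ (IsLocalRing.closedPoint L)).1 ?_)
  unfold Agree
  rw [e']

variable [IsAffine V.left]

theorem isSeparated_tup : (pts (tupObj a ha U)).IsSeparated := ⟨by
  haveI := U.isSeparated_zero
  show IsSeparated (terminal.from U.W.left)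
  rw [← terminal.comp_from (U.x 0).left]
  infer_instance⟩

variable {K : CochainComplex (AlgSp.ModEt X) ℤ}
  (hV : ∀ v : ↥V.left, ∃ (Z : AlgSp.EtOver X) (j : Z ⟶ AlgSp.EtOver.mk a ha), IsOpenImmersion (ptMap j) ∧
    v ∈ Set.range (ptMap j) ∧ ∃ B, IsSP K B ∧ Nonempty (Z ⟶ B))

include hV in
theorem hloc_tup (w : ↥(pts (tupObj a ha U))) : ∃ O : (pts (tupObj a ha U)).Opens,
    w ∈ O ∧ ∃ B, IsSP K B ∧ Nonempty (openObj (tupObj a ha U) O ⟶ B) := by
  obtain ⟨Z, j, hj, hw, B, hB, ⟨g⟩⟩ := hV ((U.x 0).left w)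
  haveI := hj
  let O := ptMap (tupHom a ha U) ⁻¹ᵁ (ptMap j).opensRange
  obtain ⟨l, -⟩ := exists_lift_imm j (openObjHom _ O ≫ tupHom a ha U) (by
    rintro _ ⟨t, rfl⟩
    exact t.2)
  exact ⟨O, hw, B, hB, ⟨l ≫ g⟩⟩

theorem hfin_tup (T : Finset ↥(pts (tupObj a ha U))) (O : (pts (tupObj a ha U)).Opens) (hT : ∀ x ∈ T, x ∈ O) :
    ∃ A : (pts (tupObj a ha U)).Opens, IsAffineOpen A ∧ A ≤ O ∧ ∀ x ∈ T, x ∈ A := by
  classical
  haveI := U.etale_zero
  haveI := U.isSeparated_zero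
  let O' : U.W.left.Opens := O
  let f : O'.toScheme ⟶ V.left := O'.ι ≫ (U.x 0).left
  haveI : LocallyQuasiFinite f := Groth.Agent.Unibranch.locallyQuasiFinite_of_etale _
  let T' : Finset ↥O' := T.attach.map ⟨fun (x : {x // x ∈ T}) => (⟨x.1, hT x.1 x.2⟩ : ↥O'), fun x y e => Subtype.ext (congrArg (fun z : ↥O' => z.1) e)⟩
  obtain ⟨A, hA, hAT⟩ := Groth.Agent.S0411.result f T'
  refine ⟨O'.ι ''ᵁ A, hA.image_of_isOpenImmersion O'.ι, ?_, fun x hx =>
    ⟨⟨x, hT x hx⟩, hAT _ (Finset.mem_map.2 ⟨⟨x, hx⟩, Finset.mem_attach _ _, rfl⟩), rfl⟩⟩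
  rintro _ ⟨y, -, rfl⟩
  exact y.2

variable (hqa : AlgSp.RepWith @QuasiCompact a)

include hqa in
theorem compact_tup : CompactSpace ↥(pts (tupObj a ha U)) := U.compact inferInstance hqa

include hqa in
theorem repWith_qc_tup : AlgSp.RepWith @QuasiCompact ((AlgSp.yon S).map (U.x 0) ≫ a) := by
  haveI : CompactSpace ↥U.W.left := U.compact inferInstance hqa
  haveI : QuasiCompact (U.x 0).left := quasiCompact_of_compactSpace _
  exact ASp.repWith_comp (P := @QuasiCompact) (ASp.repWith_yon_map (P := @QuasiCompact) ‹_›) hqa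

/-- The points of tuples over the next stratum. -/
def overNext (U' : Univ a (n + 1)) : (pts (tupObj a ha U)).Opens :=
  ⟨ptX (tupObj a ha U) ⁻¹' img U', (StratX.isOpen_img ha U').preimage (AlgSp.Points.continuous_ofPt _)⟩

include hqa in
theorem isCompact_overNext (U' : Univ a (n + 1)) :
    IsCompact ((overNext ha (U := U) U') : Set ↥(pts (tupObj a ha U))) := by
  let f := (AlgSp.yon S).map (U.x 0) ≫ a
  let g := (AlgSp.yon S).map (U'.x 0) ≫ a
  have hf : AlgSp.RepWith @QuasiCompact f := repWith_qc_tup hqa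
  obtain ⟨z, hz⟩ := (AlgSp.yon S).map_surjective (hf.1.fst g)
  have sq : IsPullback ((AlgSp.yon S).map z) ((AlgSp.yon S).map (hf.1.snd g)) f g := hz ▸ hf.1.isPullback _
  let π := hf.1.snd g
  haveI : QuasiCompact π.left := hf.2 _ _ _ sq
  haveI : CompactSpace ↥U'.W.left := U'.compact inferInstance hqa
  haveI : CompactSpace ↥(hf.1.pullback g).left := QuasiCompact.compactSpace_of_compactSpace π.left
  have hcomm : ∀ p, AlgSp.Points.ofPt f (z.left p) = AlgSp.Points.ofPt g (π.left p) := fun p => by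
    rw [← ASp.ofPt_yon_map_comp, sq.w, ASp.ofPt_yon_map_comp]
  have e : ((overNext ha (U := U) U') : Set ↥(pts (tupObj a ha U))) = Set.range z.left := by
    refine subset_antisymm ?_ ?_
    · intro w hw
      obtain ⟨w', hw'⟩ := (hw : AlgSp.Points.ofPt f w ∈ Set.range (AlgSp.Points.ofPt g))
      obtain ⟨p, hp, -⟩ := ASp.points_exists_of_isPullback sq (AlgSp.Points.ofScheme U.W w)
        (AlgSp.Points.ofScheme U'.W w') (by
          rw [← AlgSp.Points.ofPt_eq_map_ofScheme, ← AlgSp.Points.ofPt_eq_map_ofScheme, hw']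
          rfl)
      obtain ⟨p, rfl⟩ := (AlgSp.Points.schemeHomeo _).surjective p
      exact ⟨p, ASp.ofPt_yon_inj z ((congrFun (ASp.ofPt_comp_eq_map ((AlgSp.yon S).map z)) p).trans hp)⟩
    · rintro _ ⟨p, rfl⟩
      exact ⟨π.left p, (hcomm p).symm⟩
  rw [e]
  exact isCompact_range z.left.continuous

include hV hqa in
theorem van_orbits {act : GAct (tupObj a ha U) (Equiv.Perm (Fin (n + 1)))}
    (hact : ∀ g i, (act.r g).hom.left ≫ U.x i = U.x (g.symm i))
    (O : (pts (tupObj a ha U)).Opens) (hO : Stable act O) (hOc : IsCompact (O : Set ↥(pts (tupObj a ha U)))) :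
    Van K ((orbConds act).sub O) :=
  haveI := isSeparated_tup ha (U := U)
  van_orb act (free_act ha hact) (hloc_tup ha hV) (hfin_tup ha) O hO hOc

/-- Over points outside the next stratum two tuples over the same point locally differ by a permutation. -/
theorem exists_perm_near (U' : Univ a (n + 1)) {E : AlgSp.EtOver X} (ψ ψ' : E ⟶ tupObj a ha U)
    {act : GAct (tupObj a ha U) (Equiv.Perm (Fin (n + 1)))}
    (hact : ∀ g i, (act.r g).hom.left ≫ U.x i = U.x (g.symm i)) (t : ↥(pts E)) (ht : ptX E t ∉ img U') :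
    ∃ O : (pts E).Opens, t ∈ O ∧ ∃ g, openObjHom E O ≫ ψ' = (openObjHom E O ≫ ψ) ≫ act.r g := by
  let h := ψ.hom.left
  let h' := ψ'.hom.left
  have hover : ∀ i j, (AlgSp.yon S).map (h' ≫ U.x i) ≫ a = (AlgSp.yon S).map (h ≫ U.x j) ≫ a := fun i j => by
    rw [Functor.map_comp, Functor.map_comp, Category.assoc, Category.assoc, U.isTup.over i 0, U.isTup.over j 0]
    exact (AlgSp.EtOver.w ψ').trans (AlgSp.EtOver.w ψ).symm
  haveI : V.left.IsSeparated := inferInstance
  choose C hCc hC hCeq using fun i j =>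
    exists_clopen a (StratX.isSeparated_hom (V := V)) ha (h' ≫ U.x i) (h ≫ U.x j) (hover i j)
  have hex : ∀ i, ∃ j, t ∈ C i j := by
    by_contra! hne
    obtain ⟨i, hi⟩ := hne
    let T := E.obj.left
    let k : Over.mk (T.left.fromSpecResidueField t ≫ T.hom) ⟶ T := Over.homMk (T.left.fromSpecResidueField t) rfl
    have hkt : ∀ z, k.left z = t := fun z => Scheme.fromSpecResidueField_apply t z
    have htup : IsTup a (Fin.snoc (fun j => k ≫ h ≫ U.x j) (k ≫ h' ≫ U.x i) : Fin (n + 2) → _) := by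
      refine ⟨fun p q => ?_, fun p q hpq z => ?_⟩
      · have key : ∀ p, (AlgSp.yon S).map ((Fin.snoc (fun j => k ≫ h ≫ U.x j) (k ≫ h' ≫ U.x i) : Fin (n + 2) → _) p) ≫ a =
            (AlgSp.yon S).map k ≫ (AlgSp.yon S).map (h' ≫ U.x i) ≫ a := fun p => by
          refine Fin.lastCases ?_ (fun j => ?_) p
          · rw [Fin.snoc_last, Functor.map_comp, Category.assoc]
          · rw [Fin.snoc_castSucc, hover i j, Functor.map_comp, Category.assoc]
        rw [key p, key q]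
      · revert hpq
        refine Fin.lastCases ?_ (fun p => ?_) p <;> refine Fin.lastCases ?_ (fun q => ?_) q <;> intro hpq hA
        · exact hpq rfl
        · rw [Fin.snoc_last, Fin.snoc_castSucc, agree_comp k, hkt, ← hC] at hA
          exact hi q hA
        · rw [Fin.snoc_last, Fin.snoc_castSucc] at hA
          have hA' := (agree_comp k _ _ z).1 hA.symm
          rw [hkt, ← hC] at hA'
          exact hi p hA'
        · rw [Fin.snoc_castSucc, Fin.snoc_castSucc, agree_comp k, agree_comp h] at hA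
          exact U.isTup.disj p q (fun e => hpq (congrArg Fin.castSucc e)) _ hA
    obtain ⟨l, hl⟩ := U'.exists_lift htup
    refine ht ⟨l.left (IsLocalRing.closedPoint (T.left.residueField t)), ?_⟩
    rw [← ASp.ofPt_yon_map_comp l, ← Functor.map_comp_assoc, ← Fin.castSucc_zero, hl, Fin.snoc_castSucc]
    show AlgSp.Points.ofPt ((AlgSp.yon S).map (k ≫ h ≫ U.x 0) ≫ a) _ = AlgSp.Points.ofPt E.obj.hom t
    rw [Functor.map_comp, Category.assoc, Functor.map_comp, Category.assoc, ASp.ofPt_yon_map_comp k]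
    exact congrArg₂ AlgSp.Points.ofPt (AlgSp.EtOver.w ψ) (hkt _)
  choose σ hσ using hex
  have hinj : Function.Injective σ := fun i i' hii => by
    by_contra hne
    exact U.isTup.disj i i' hne _ ((agree_comp h' _ _ t).1
      (((hC i (σ i) t).1 (hσ i)).trans (hii ▸ ((hC i' (σ i') t).1 (hσ i')).symm)))
  let τ : Equiv.Perm (Fin (n + 1)) := Equiv.ofBijective σ (Finite.injective_iff_bijective.1 hinj)
  let O : (pts E).Opens := ⟨⋂ i, (C i (σ i)).carrier, isOpen_iInter_of_finite fun i => (C i (σ i)).is_open'⟩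
  refine ⟨O, Set.mem_iInter.2 hσ, τ.symm, AlgSp.EtOver.hom_ext _ _ (U.hom_ext _ _ fun i => ?_)⟩
  have hle : O ≤ C i (σ i) := fun z hz => Set.mem_iInter.1 hz i
  show ((openObjHom E O).hom.left ≫ h') ≫ U.x i = (((openObjHom E O).hom.left ≫ h) ≫ (act.r τ.symm).hom.left) ≫ U.x i
  refine Eq.trans ?_ ((congrArg (((openObjHom E O).hom.left ≫ h) ≫ ·) (hact τ.symm i)).symm.trans
    (Category.assoc _ _ _).symm)
  refine Over.OverMorphism.ext ?_
  show (O.ι ≫ h'.left) ≫ (U.x i).left = (O.ι ≫ h.left) ≫ (U.x (σ i)).left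
  have := congrArg ((pts E).homOfLE hle ≫ ·) (hCeq i (σ i))
  simpa only [Scheme.homOfLE_ι_assoc, Over.comp_left, Category.assoc] using this

include hV hqa in
theorem van_step (U' : Univ a (n + 1)) (h : Van K (landX (img U'))) (U : Univ a n) : Van K (landX (img U)) := by
  obtain ⟨act, hact⟩ := exists_act ha U
  let W := tupObj a ha U
  let Ow := overNext ha (U := U) U'
  have hst : Stable act Ow := fun g w => by
    show ptX W (ptMap (act.r g) w) ∈ img U' ↔ ptX W w ∈ img U'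
    rw [ptX_comp]
  haveI := compact_tup ha hqa (U := U)
  have h₀ := van_orbits ha hV hqa hact Ow hst (isCompact_overNext ha hqa U')
  have h₂ := van_orbits ha hV hqa hact ⊤ (fun _ _ => Iff.rfl) isCompact_univ
  have hW : ∀ {E : AlgSp.EtOver X} (ψ : E ⟶ W) (t : ↥(pts E)), ptX E t ∈ img U := fun ψ t =>
    ⟨ptMap ψ t, ptX_comp ψ t⟩
  refine Van.mv h₀ h h₂
    { p := { app := fun E => TypeCat.ofHom fun x => ⟨PUnit.unit, fun t => by
               obtain ⟨z, ψ, rfl, hl⟩ := x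
               rw [← ptX_comp ψ]
               exact hl t⟩
             naturality := fun E E' g => by ext x; exact Subtype.ext rfl }
      q := subLE fun E x => (orbConds act).mono le_top E x
      a := subLE fun E x hx t => StratX.img_succ_subset U U' (hx t)
      b := { app := fun E => TypeCat.ofHom fun x => ⟨PUnit.unit, fun t => by
               obtain ⟨z, ψ, rfl, -⟩ := x
               exact hW ψ t⟩
             naturality := fun E E' g => by ext x; exact Subtype.ext rfl }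
      comm := fun E x => Subtype.ext rfl
      inj_q := fun E x y e => Subtype.ext (congrArg (fun z : ((orbConds act).sub ⊤).obj (op E) => z.1) e)
      inj_a := fun E x y _ => Subtype.ext rfl
      lift := fun E y z _ => ?_
      surj := fun E t => ?_
      diag := fun E z z' _ => ?_ }
  · obtain ⟨zv, ψ, rfl, -⟩ := z
    refine ⟨⟨orb act ψ, ψ, rfl, fun t => ?_⟩, Subtype.ext rfl, Subtype.ext rfl⟩
    show ptX W (ptMap ψ t) ∈ img U'
    rw [ptX_comp]
    exact y.2 t
  · have hW' : AlgSp.RepWith @Etale W.obj.hom := W.property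
    obtain ⟨q₀, hq₀⟩ := (AlgSp.yon S).map_surjective (hW'.1.fst E.obj.hom)
    have sq : IsPullback ((AlgSp.yon S).map q₀) ((AlgSp.yon S).map (hW'.1.snd E.obj.hom)) W.obj.hom E.obj.hom :=
      hq₀ ▸ hW'.1.isPullback _
    let π := hW'.1.snd E.obj.hom
    have hπ : Etale π.left := hW'.2 _ _ _ sq
    let E' : AlgSp.EtOver X := AlgSp.EtOver.mk ((AlgSp.yon S).map π ≫ E.obj.hom)
      (ASp.repWith_comp (P := @Etale) (ASp.repWith_yon_map (P := @Etale) hπ) E.property)
    let π' : E' ⟶ E := AlgSp.EtOver.homMk π rfl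
    let q' : E' ⟶ W := AlgSp.EtOver.homMk q₀ sq.w
    refine ⟨_, AlgSp.ofArrows_mem_etTop (fun _ : PUnit.{1} => E') (fun _ => π') (fun x => ?_), fun F g hg => ?_⟩
    · obtain ⟨w, hw⟩ := t.2 x
      obtain ⟨p, -, hp⟩ := ASp.points_exists_of_isPullback sq (AlgSp.Points.ofScheme W.obj.left w)
        (AlgSp.Points.ofScheme E.obj.left x) (by
          rw [← AlgSp.Points.ofPt_eq_map_ofScheme, ← AlgSp.Points.ofPt_eq_map_ofScheme]
          exact hw)
      obtain ⟨p, rfl⟩ := (AlgSp.Points.schemeHomeo _).surjective p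
      exact ⟨⟨⟩, p, ASp.ofPt_yon_inj π ((congrFun (ASp.ofPt_comp_eq_map ((AlgSp.yon S).map π)) p).trans hp)⟩
    · obtain ⟨-, r, rfl⟩ := (Sieve.mem_ofArrows_iff _ _ _).1 hg
      exact Or.inr ⟨⟨orb act (r ≫ q'), r ≫ q', rfl, fun _ => trivial⟩, Subtype.ext rfl⟩
  · obtain ⟨zv, ψ, rfl, -⟩ := z
    obtain ⟨zv', ψ', rfl, -⟩ := z'
    have key : ∀ t : ↥(pts E), ∃ O : (pts E).Opens, t ∈ O ∧
        ((∀ s ∈ O, ptX E s ∈ img U') ∨ ∃ g, openObjHom E O ≫ ψ' = (openObjHom E O ≫ ψ) ≫ act.r g) := fun t => by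
      by_cases ht : ptX E t ∈ img U'
      · exact ⟨⟨ptX E ⁻¹' img U', (StratX.isOpen_img ha U').preimage (AlgSp.Points.continuous_ofPt _)⟩, ht,
          Or.inl fun s hs => hs⟩
      · obtain ⟨O, hO, g, hg⟩ := exists_perm_near ha U' ψ ψ' hact t ht
        exact ⟨O, hO, Or.inr ⟨g, hg⟩⟩
    choose O hmem hO using key
    refine ⟨_, AlgSp.ofArrows_mem_etTop (fun t => openObj E (O t)) (fun t => openObjHom E (O t))
      (fun t => ⟨t, ⟨t, hmem t⟩, rfl⟩), fun F g hg => ?_⟩
    obtain ⟨t, r, rfl⟩ := (Sieve.mem_ofArrows_iff _ _ _).1 hg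
    rcases hO t with h' | ⟨σ, hσ⟩
    · refine Or.inr ⟨⟨PUnit.unit, fun s => ?_⟩, Subtype.ext rfl⟩
      rw [← ptX_comp (r ≫ openObjHom E (O t)) s]
      exact h' _ (ptMap r s).2
    · refine Or.inl (Subtype.ext ((orb_eq_iff act _ _).2 ⟨σ, ?_⟩))
      show (r ≫ openObjHom E (O t)) ≫ ψ' = ((r ≫ openObjHom E (O t)) ≫ ψ) ≫ act.r σ
      simp only [Category.assoc] at hσ ⊢
      rw [hσ]

include hV hqa in
theorem van_top (hs : AlgSp.RepWith @Surjective a)
    (hempty : ∀ W : (n : ℕ) → Univ a n, ∃ N, img (W N) = ∅) : Van K (topH : (AlgSp.EtOver X)ᵒᵖ ⥤ Type (u + 1)) := by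
  have W : ∀ n : ℕ, Univ a n := fun n => (StratX.nonempty_univ a StratX.isSeparated_hom ha n).some
  obtain ⟨N, hN⟩ := hempty W
  have hbase : Van K (landX (img (W N))) := van_of_local fun E x => bot_mem_of_isEmpty E ⟨fun t => by
    have h : ptX E t ∈ img (W N) := x.2 t
    rw [hN] at h
    exact h⟩
  have hdesc : ∀ k m, m + k = N → Van K (landX (img (W m))) := fun k => by
    induction k with
    | zero => intro m hm; obtain rfl : m = N := by omega
              exact hbase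
    | succ k ih => intro m hm; exact van_step ha hV hqa (W (m + 1)) (ih (m + 1) (by omega)) (W m)
  refine (hdesc N 0 (Nat.zero_add N)).of_iso
    { hom := subι
      inv := subLift (𝟙 _) fun E x t => by
        rw [StratX.range_zero (W 0)]
        obtain ⟨v, hv⟩ := (ASp.repWith_surjective_iff ha.1).1 hs (ptX E t)
        obtain ⟨v, rfl⟩ := (AlgSp.Points.schemeHomeo V).surjective v
        exact ⟨v, (congrFun (ASp.ofPt_comp_eq_map a) v).trans hv⟩
      hom_inv_id := rfl
      inv_hom_id := rfl }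

end Strata

/-- Maps out of a perfect object into quasi-coherent objects of sufficiently low degree vanish. -/
theorem exists_vanishing [QuasiSeparatedSpace ↥S] (X : AlgSp.Space S)
    (hXc : AlgSp.IsQuasiCompactSp X.obj) (hXs : AlgSp.IsQuasiSeparatedSp X.obj)
    {P : AlgSp.DModEt X.obj} (hP : AlgSp.IsPerfectEtD P) :
    ∃ b : ℤ, ∀ Z : AlgSp.DModEt X.obj, DCoh.IsQCohDMod (AlgSp.OEtRing X.obj) Z → Z.IsLE b →
      ∀ φ : P ⟶ Z, φ = 0 := by
  haveI := ASp.compactSpace_of_isQuasiCompactSp hXc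
  obtain ⟨V, a, hVa, hae, has⟩ := ASp.exists_affine_chart X.2
  haveI := hVa
  let K : CochainComplex (AlgSp.ModEt X.obj) ℤ := Q.objPreimage P
  let eK : Q.obj K ≅ P := Q.objObjPreimageIso P
  obtain ⟨ι, Vk, g, hg, hsp⟩ := hP (AlgSp.EtOver.mk a hae)
  rw [AlgSp.ofArrows_mem_etPre_iff] at hg
  have hsp' : ∀ i, IsSP K (Vk i) := fun i =>
    let ⟨E, hE, ⟨e⟩⟩ := hsp i
    ⟨E, hE, ⟨(AlgSp.resDEt (Vk i)).mapIso eK ≪≫ e⟩⟩
  have hnb : ∀ v : ↥V.left, ∃ (i : ι) (B : (pts (Vk i)).Opens), IsAffineOpen B ∧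
      v ∈ Set.range (ptMap (openObjHom (Vk i) B ≫ g i)) := fun v => by
    obtain ⟨i, y, hy⟩ := hg v
    obtain ⟨B, hB, hyB, -⟩ := exists_isAffineOpen_mem_and_subset (x := y) (U := (⊤ : (pts (Vk i)).Opens)) trivial
    exact ⟨i, B, hB, ⟨y, hyB⟩, hy⟩
  choose i B hB hmem using hnb
  let Z : ↥V.left → AlgSp.EtOver X.obj := fun v => openObj (Vk (i v)) (B v)
  let z : ∀ v, Z v ⟶ AlgSp.EtOver.mk a hae := fun v => openObjHom (Vk (i v)) (B v) ≫ g (i v)
  haveI : CompactSpace ↥V.left := inferInstance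
  obtain ⟨I, hI⟩ := (isCompact_univ (X := ↥V.left)).elim_finite_subcover (fun v => Set.range (ptMap (z v)))
    (fun v => haveI := AlgSp.EtOver.etale_left (z v); (ptMap (z v)).isOpenMap.isOpen_range)
    (fun v _ => Set.mem_iUnion.2 ⟨v, hmem v⟩)
  let V' : Over S := Over.mk (Limits.Sigma.desc fun v : ↥I => (Z v.1).obj.left.hom : (∐ fun v : ↥I => pts (Z v.1)) ⟶ S)
  let d : V' ⟶ V := Over.homMk (Limits.Sigma.desc fun v : ↥I => ptMap (z v.1) : (∐ fun v : ↥I => pts (Z v.1)) ⟶ V.left)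
    (Limits.Sigma.hom_ext _ _ fun v => by
      show _ = Limits.Sigma.ι (fun v : ↥I => pts (Z v.1)) v ≫ Limits.Sigma.desc (fun v : ↥I => (Z v.1).obj.left.hom)
      rw [← Category.assoc, Limits.Sigma.ι_desc, Limits.Sigma.ι_desc]
      exact Over.w (z v.1).hom.left)
  haveI : ∀ v : ↥I, IsAffine (pts (Z v.1)) := fun v => aff_openObj (Vk (i v.1)) (hB v.1)
  haveI : IsAffine V'.left := inferInstanceAs (IsAffine (∐ fun v : ↥I => pts (Z v.1)))
  haveI hde : Etale d.left :=
    IsZariskiLocalAtSource.sigmaDesc fun v : ↥I => AlgSp.EtOver.etale_left (z v.1)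
  haveI hds : Surjective d.left := ⟨fun v => by
    obtain ⟨w, hw, p, hp⟩ := Set.mem_iUnion₂.1 (hI (Set.mem_univ v))
    refine ⟨Limits.Sigma.ι (fun v : ↥I => pts (Z v.1)) ⟨w, hw⟩ p, Eq.trans ?_ hp⟩
    exact congrArg (fun f : pts (Z w) ⟶ V.left => f p)
      (Limits.Sigma.ι_desc (fun v : ↥I => ptMap (z v.1)) ⟨w, hw⟩)⟩
  let a' : (AlgSp.yon S).obj V' ⟶ X.obj := (AlgSp.yon S).map d ≫ a
  have hae' : AlgSp.RepWith @Etale a' := ASp.repWith_comp (P := @Etale) (ASp.repWith_yon_map (P := @Etale) hde) hae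
  have has' : AlgSp.RepWith @Surjective a' :=
    ASp.repWith_comp (P := @Surjective) (ASp.repWith_yon_map (P := @Surjective) hds) has
  let π : X.obj ⟶ (AlgSp.yon S).obj (Over.mk (𝟙 S)) := ASp.isTerminalYonBase.from X.obj
  obtain ⟨t, ht⟩ := (AlgSp.yon S).map_surjective (a' ≫ π)
  haveI : QuasiSeparatedSpace ↥(Over.mk (𝟙 S)).left := ‹QuasiSeparatedSpace ↥S›
  haveI : QuasiCompact t.left := quasiCompact_of_compactSpace _
  have hqa : AlgSp.RepWith @QuasiCompact a' :=
    ASp.repWith_qc_of_qs (ASp.isQuasiSeparatedMor_toBase hXs π) a' t ht.symm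
  have hV : ∀ w : ↥V'.left, ∃ (F : AlgSp.EtOver X.obj) (j : F ⟶ AlgSp.EtOver.mk a' hae'), IsOpenImmersion (ptMap j) ∧
      w ∈ Set.range (ptMap j) ∧ ∃ B, IsSP K B ∧ Nonempty (F ⟶ B) := fun w => by
    obtain ⟨⟨v, p⟩, hp⟩ := (sigmaMk fun v : ↥I => pts (Z v.1)).surjective w
    rw [sigmaMk_mk] at hp
    let j₁ : (Z v.1).obj.left ⟶ V' := Over.homMk (Limits.Sigma.ι (fun v : ↥I => pts (Z v.1)) v)
      (Limits.Sigma.ι_desc _ _)
    have hjd : j₁ ≫ d = (z v.1).hom.left := Over.OverMorphism.ext (Limits.Sigma.ι_desc _ _)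
    haveI hι : IsOpenImmersion (Limits.Sigma.ι (fun v : ↥I => pts (Z v.1)) v) := inferInstance
    refine ⟨Z v.1, AlgSp.EtOver.homMk j₁ ?_, hι,
      ⟨p, hp⟩, Vk (i v.1), hsp' _, ⟨openObjHom _ _⟩⟩
    show (AlgSp.yon S).map j₁ ≫ (AlgSp.yon S).map d ≫ a = (Z v.1).obj.hom
    rw [← Functor.map_comp_assoc, hjd]
    exact AlgSp.EtOver.w (z v.1)
  obtain ⟨b, hb⟩ := eq_zero_of_top (van_top hae' hV hqa has' (StratX.exists_empty hae' hqa))
  refine ⟨b, fun W hW hWb φ => ?_⟩
  rw [← cancel_epi eK.hom, comp_zero]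
  exact hb W hW hWb _

end Groth.Agent.AlgSpShriek
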