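import Groth.Agent.AlgSpShriek.Shriek

/-! The vanishing property of a presheaf of sets with respect to a complex. -/

set_option autoImplicit false
set_option linter.style.haveILetI false
set_option linter.unusedSectionVars false
set_option backward.isDefEq.respectTransparency false
set_option backward.isDefEq.respectTransparency.types false
set_option maxHeartbeats 1000000
set_option synthInstance.maxHeartbeats 400000

universe u

open CategoryTheory Limits AlgebraicGeometry Opposite DerivedCategory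
open Groth.Agent.AlgSpQC Groth.Agent.AlgSpFT Groth.Agent.RlimCrit Groth.Agent.AlgSpRlim

attribute [local instance] HasDerivedCategory.standard

noncomputable section

namespace Groth.Agent.AlgSpShriek

variable {S : Scheme.{u}} {X : AlgSp.Sp S}

instance additive_jH (H : (AlgSp.EtOver X)ᵒᵖ ⥤ Type (u + 1)) : (jH (R := AlgSp.OEtRing X) H).Additive := by
  haveI : (PresheafOfModules.pushforward₀ (elπ H) (AlgSp.OEtRing X).obj).Additive := { map_add := by intros; rfl }
  unfold jH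
  infer_instance

theorem qcD_shift {Z : AlgSp.DModEt X} (hZ : DCoh.IsQCohDMod (AlgSp.OEtRing X) Z) (n : ℤ) :
    DCoh.IsQCohDMod (AlgSp.OEtRing X) (Z⟦n⟧) := fun i =>
  (SheafOfModules.isQuasicoherent (AlgSp.OEtRing X)).prop_of_iso
    (((homologyFunctor (AlgSp.ModEt X) 0).shiftIso n i (n + i) rfl).app Z).symm (hZ (n + i))

theorem eq_zero_of_shiftG {A : Type*} [Category A] [Preadditive A] [HasShift A ℤ]
    [∀ n : ℤ, (shiftFunctor A n).Additive] {P Z : A} (n : ℤ) (φ : P⟦n⟧ ⟶ Z) (h : ∀ ψ : P ⟶ Z⟦-n⟧, ψ = 0) : φ = 0 := by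
  apply (shiftFunctor A (-n)).map_injective
  rw [Functor.map_zero, ← cancel_epi ((shiftFunctorCompIsoId A n (-n) (by omega)).app P).inv, comp_zero]
  exact h _

/-- The image of the complex under the extension by zero. -/
abbrev jC (H : (AlgSp.EtOver X)ᵒᵖ ⥤ Type (u + 1)) (K : CochainComplex (AlgSp.ModEt X) ℤ) :
    CochainComplex (AlgSp.ModEt X) ℤ :=
  ((jH (R := AlgSp.OEtRing X) H).mapHomologicalComplex (ComplexShape.up ℤ)).obj K

/-- Maps out of the extension by zero vanish on quasi-coherent objects in sufficiently low degrees. -/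
def Van (K : CochainComplex (AlgSp.ModEt X) ℤ) (H : (AlgSp.EtOver X)ᵒᵖ ⥤ Type (u + 1)) : Prop :=
  ∃ b : ℤ, ∀ Z : AlgSp.DModEt X, DCoh.IsQCohDMod (AlgSp.OEtRing X) Z → Z.IsLE b →
    ∀ φ : Q.obj (jC H K) ⟶ Z, φ = 0

variable {K : CochainComplex (AlgSp.ModEt X) ℤ} {H H' : (AlgSp.EtOver X)ᵒᵖ ⥤ Type (u + 1)}

/-- Retracts inherit the property. -/
theorem Van.retract (h : Van K H) (i : jH (R := AlgSp.OEtRing X) H' ⟶ jH H) (p : jH (R := AlgSp.OEtRing X) H ⟶ jH H')
    (hip : i ≫ p = 𝟙 _) : Van K H' := by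
  obtain ⟨b, hb⟩ := h
  refine ⟨b, fun Z hZ hZb φ => ?_⟩
  let I := Q.map ((NatTrans.mapHomologicalComplex i (ComplexShape.up ℤ)).app K)
  let P := Q.map ((NatTrans.mapHomologicalComplex p (ComplexShape.up ℤ)).app K)
  have e : I ≫ P = 𝟙 _ := by
    refine (Q.map_comp _ _).symm.trans (Eq.trans (congrArg Q.map ?_) (Q.map_id _))
    exact HomologicalComplex.hom_ext _ _ fun n => congrArg (fun t : jH (R := AlgSp.OEtRing X) H' ⟶ jH H' => t.app (K.X n)) hip
  calc φ = (I ≫ P) ≫ φ := by rw [e]; exact (Category.id_comp φ).symm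
    _ = I ≫ P ≫ φ := Category.assoc _ _ _
    _ = 0 := (congrArg (I ≫ ·) (hb Z hZ hZb (P ≫ φ))).trans comp_zero

theorem Van.of_iso (h : Van K H) (e : H ≅ H') : Van K H' :=
  h.retract (jIso e).inv (jIso e).hom (jIso e).inv_hom_id

theorem Van.of_qdata (h : Van K H) {π : H ⟶ H'} {G : Type} [Group G] [Fintype G]
    (D : QData (AlgSp.OEtRing X).obj π G) : Van K H' :=
  h.retract (jτ D) (jMap π) (jτ_π D)

theorem van_of_local (h : ∀ (E : AlgSp.EtOver X), H.obj (op E) → ⊥ ∈ AlgSp.etTop X E) : Van K H :=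
  ⟨0, fun _ _ _ φ => eq_zero_of_zero (fun n => isZero_jH_of_local h (K.X n)) φ⟩

section MV

variable {H₀ H₁ H₂ H₃ : (AlgSp.EtOver X)ᵒᵖ ⥤ Type (u + 1)}

/-- The sum of two extensions by zero. -/
def sumJ (H₁ H₂ : (AlgSp.EtOver X)ᵒᵖ ⥤ Type (u + 1)) : AlgSp.ModEt X ⥤ AlgSp.ModEt X where
  obj M := (jH (R := AlgSp.OEtRing X) H₁).obj M ⊞ (jH (R := AlgSp.OEtRing X) H₂).obj M
  map φ := biprod.map ((jH H₁).map φ) ((jH H₂).map φ)
  map_id M := by apply biprod.hom_ext <;> simp
  map_comp φ ψ := by apply biprod.hom_ext <;> simp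

instance additive_sumJ (H₁ H₂ : (AlgSp.EtOver X)ᵒᵖ ⥤ Type (u + 1)) : (sumJ H₁ H₂).Additive where
  map_add {M N φ ψ} := by
    show biprod.map _ _ = biprod.map _ _ + biprod.map _ _
    rw [(jH H₁).map_add, (jH H₂).map_add]
    apply biprod.hom_ext <;> simp [Preadditive.comp_add, Preadditive.add_comp]

variable (D : MVData (AlgSp.etTop X) H₀ H₁ H₂ H₃)

/-- The first map, naturally. -/
def fNat : jH (R := AlgSp.OEtRing X) H₀ ⟶ sumJ H₁ H₂ where
  app M := D.f M
  naturality M N φ := by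
    show _ ≫ biprod.lift ((jMap D.p).app N) (-(jMap D.q).app N) =
      biprod.lift ((jMap D.p).app M) (-(jMap D.q).app M) ≫ biprod.map _ _
    apply biprod.hom_ext
    · simp only [Category.assoc, biprod.lift_fst, biprod.map_fst, biprod.lift_fst_assoc]
      exact (jMap D.p).naturality φ
    · simp only [Category.assoc, biprod.lift_snd, biprod.map_snd, biprod.lift_snd_assoc, Preadditive.comp_neg,
        Preadditive.neg_comp]
      exact congrArg (- ·) ((jMap D.q).naturality φ)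

/-- The second map, naturally. -/
def gNat : sumJ H₁ H₂ ⟶ jH (R := AlgSp.OEtRing X) H₃ where
  app M := D.g M
  naturality M N φ := by
    show biprod.map _ _ ≫ biprod.desc ((jMap D.a).app N) ((jMap D.b).app N) =
      biprod.desc ((jMap D.a).app M) ((jMap D.b).app M) ≫ _
    apply biprod.hom_ext'
    · simp only [biprod.inl_map_assoc, biprod.inl_desc, biprod.inl_desc_assoc]
      exact (jMap D.a).naturality φ
    · simp only [biprod.inr_map_assoc, biprod.inr_desc, biprod.inr_desc_assoc]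
      exact (jMap D.b).naturality φ

/-- The property passes to the union. -/
theorem Van.mv (h₀ : Van K H₀) (h₁ : Van K H₁) (h₂ : Van K H₂) (D : MVData (AlgSp.etTop X) H₀ H₁ H₂ H₃) :
    Van K H₃ := by
  obtain ⟨b₀, hb₀⟩ := h₀
  obtain ⟨b₁, hb₁⟩ := h₁
  obtain ⟨b₂, hb₂⟩ := h₂
  refine ⟨min (min b₁ b₂) (b₀ - 1), fun Z hZ hZb φ => ?_⟩
  haveI := hZb
  let cs := ComplexShape.up ℤ
  let T : ShortComplex (CochainComplex (AlgSp.ModEt X) ℤ) :=
    ShortComplex.mk ((NatTrans.mapHomologicalComplex (fNat D) cs).app K)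
      ((NatTrans.mapHomologicalComplex (gNat D) cs).app K) (HomologicalComplex.hom_ext _ _ fun n => D.f_g (K.X n))
  have hT : T.ShortExact :=
    HomologicalComplex.shortExact_of_degreewise_shortExact T fun n => D.shortExact (K.X n)
  refine eq_zero_of_ses₃ hT (fun ψ => ?_) (fun ψ => ?_) φ
  · let I₁ : ((jH (R := AlgSp.OEtRing X) H₁) ⟶ sumJ H₁ H₂) :=
      { app := fun M => biprod.inl, naturality := fun M N φ => (biprod.inl_map _ _).symm }
    let I₂ : ((jH (R := AlgSp.OEtRing X) H₂) ⟶ sumJ H₁ H₂) :=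
      { app := fun M => biprod.inr, naturality := fun M N φ => (biprod.inr_map _ _).symm }
    let P₁ : (sumJ H₁ H₂ ⟶ jH (R := AlgSp.OEtRing X) H₁) :=
      { app := fun M => biprod.fst, naturality := fun M N φ => biprod.map_fst _ _ }
    let P₂ : (sumJ H₁ H₂ ⟶ jH (R := AlgSp.OEtRing X) H₂) :=
      { app := fun M => biprod.snd, naturality := fun M N φ => biprod.map_snd _ _ }
    let m := fun {F F' : AlgSp.ModEt X ⥤ AlgSp.ModEt X} [F.Additive] [F'.Additive] (t : F ⟶ F') =>
      Q.map ((NatTrans.mapHomologicalComplex t cs).app K)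
    have e : (𝟙 (Q.obj T.X₂)) = m P₁ ≫ m I₁ + m P₂ ≫ m I₂ := by
      simp only [m, ← Functor.map_comp, ← Functor.map_add]
      refine ((congrArg Q.map ?_).trans (Q.map_id _)).symm
      exact HomologicalComplex.hom_ext _ _ fun n => biprod.total
    have e₁ : m I₁ ≫ ψ = 0 := hb₁ Z hZ ((isLE_iff _ _).2 fun i hi => isZero_of_isLE Z (min (min b₁ b₂) (b₀ - 1)) i (by omega)) _
    have e₂ : m I₂ ≫ ψ = 0 := hb₂ Z hZ ((isLE_iff _ _).2 fun i hi => isZero_of_isLE Z (min (min b₁ b₂) (b₀ - 1)) i (by omega)) _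
    calc ψ = 𝟙 _ ≫ ψ := (Category.id_comp ψ).symm
      _ = 0 := by
        rw [e, Preadditive.add_comp, Category.assoc, Category.assoc, e₁, e₂, comp_zero, comp_zero, add_zero]
  · exact eq_zero_of_shiftG 1 ψ fun χ => hb₀ _ (qcD_shift hZ (-1))
      (isLE_shiftG Z (min (min b₁ b₂) (b₀ - 1)) (-1) b₀ (by omega)) χ

end MV

/-- An object on which the complex is strictly perfect. -/
def IsSP (K : CochainComplex (AlgSp.ModEt X) ℤ) (V : AlgSp.EtOver X) : Prop :=
  ∃ P : CochainComplex (AlgSp.ModEtOn V) ℤ, DCoh.IsStrictlyPerfectMod (AlgSp.OEtOn V) P ∧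
    Nonempty ((AlgSp.resDEt V).obj (Q.obj K) ≅ DCoh.toDMod (AlgSp.OEtOn V) P)

/-- Affine objects over objects where the complex is strictly perfect have the property. -/
theorem van_affine {W V : AlgSp.EtOver X} (k : W ⟶ V) (hW : Aff X W) (hV : IsSP K V) : Van K (yW W) := by
  obtain ⟨P, ⟨⟨a, c, hac⟩, hP⟩, ⟨e⟩⟩ := hV
  obtain ⟨φu, ψu, hu⟩ := exists_retract_unit k
  refine ⟨a - 1, fun Z hZ hZb φ => ?_⟩
  haveI := hZb
  let J := jV k
  let cs := ComplexShape.up ℤ
  let e₁ : jC (yW W) K ≅ (J.mapHomologicalComplex cs).obj (((AlgSp.resModEt V).mapHomologicalComplex cs).obj K) :=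
    HomologicalComplex.Hom.isoOfComponents (fun i => ((jResIso k).app (K.X i)).symm)
      (fun i j _ => ((jResIso k).inv.naturality (K.d i j)).symm)
  let e₂ : Q.obj (jC (yW W) K) ≅ Q.obj ((J.mapHomologicalComplex cs).obj P) :=
    Q.mapIso e₁ ≪≫ (J.mapDerivedCategoryFactors.app _).symm ≪≫
      J.mapDerivedCategory.mapIso (((AlgSp.resModEt V).mapDerivedCategoryFactors.app K).symm ≪≫ e) ≪≫
        J.mapDerivedCategoryFactors.app P
  rw [← cancel_epi e₂.inv, comp_zero]
  refine eq_zero_of_bounded (c + 1 - a).toNat a _ (fun i hi => J.map_isZero (hac i (by omega)))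
    (fun i hi _ χ => ?_) _
  obtain ⟨n, ι', p, hip⟩ := hP i
  refine eq_zero_of_retract i (J.map ι') (J.map p)
    ((J.map_comp _ _).symm.trans ((congrArg J.map hip).trans (J.map_id _))) (fun χ' => ?_) χ
  have hgen : ∀ ξ : Q.obj ((HomologicalComplex.single _ cs i).obj (J.obj (SheafOfModules.unit (AlgSp.OEtOn V)))) ⟶ Z,
      ξ = 0 := eq_zero_of_retract i ψu φu hu fun ξ =>
    (cl_bijective_qc Z hZ (U := AsSmall.up.obj W) hW i).1
      ((IsZero.eq_of_tgt (isZero_of_isLE Z (a - 1) i (by omega)) _ _).trans (cl_zero i _ Z).symm)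
  let F := J ⋙ HomologicalComplex.single (AlgSp.ModEt X) cs i ⋙ Q
  let pr : ULift.{u + 1} (Fin n) → (SheafOfModules.free (R := AlgSp.OEtOn V) (ULift.{u + 1} (Fin n)) ⟶
      SheafOfModules.unit (AlgSp.OEtOn V)) := fun l =>
    Sigma.desc fun l' => if l' = l then 𝟙 (SheafOfModules.unit (AlgSp.OEtOn V)) else 0
  let inc : ULift.{u + 1} (Fin n) → (SheafOfModules.unit (AlgSp.OEtOn V) ⟶
      SheafOfModules.free (R := AlgSp.OEtOn V) (ULift.{u + 1} (Fin n))) := fun l => Sigma.ι (fun _ => _) l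
  have hsum : ∑ l, pr l ≫ inc l = 𝟙 _ := Sigma.hom_ext _ _ fun l => by
    rw [Preadditive.comp_sum, Finset.sum_eq_single l]
    · simp [pr, inc]
      exact (Category.comp_id _).symm
    · intro b _ hb; simp [pr, Ne.symm hb]
    · simp
  haveI : F.Additive := inferInstance
  calc χ' = F.map (∑ l, pr l ≫ inc l) ≫ χ' := by rw [hsum, F.map_id]; exact (Category.id_comp χ').symm
    _ = 0 := by
      rw [F.map_sum, Preadditive.sum_comp]
      refine Finset.sum_eq_zero fun l _ => ?_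
      rw [F.map_comp, Category.assoc]
      exact (congrArg (F.map (pr l) ≫ ·) (hgen _)).trans comp_zero

/-- The property of the trivial presheaf gives the vanishing for the complex itself. -/
theorem eq_zero_of_top (h : Van K topH) : ∃ b : ℤ, ∀ Z : AlgSp.DModEt X, DCoh.IsQCohDMod (AlgSp.OEtRing X) Z →
    Z.IsLE b → ∀ φ : Q.obj K ⟶ Z, φ = 0 := by
  obtain ⟨b, hb⟩ := h
  refine ⟨b, fun Z hZ hZb φ => ?_⟩
  let e : jC topH K ≅ K := HomologicalComplex.Hom.isoOfComponents (fun i => jTop.app (K.X i))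
    (fun i j _ => (jTop.hom.naturality (K.d i j)).symm)
  rw [← cancel_epi (Q.map e.hom), comp_zero]
  exact hb Z hZ hZb _

end Groth.Agent.AlgSpShriek
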