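import Mathlib

/-! Elements of trace one for free actions of finite groups on affine schemes. -/

set_option autoImplicit false
set_option linter.style.haveILetI false

universe u

open CategoryTheory AlgebraicGeometry Opposite Polynomial

noncomputable section

namespace Groth.Agent.AlgSpShriek

/-- An element of trace one, if the traces generate the unit ideal. -/
theorem exists_trace_eq_one {A : Type*} [CommRing A] {G : Type*} [Group G] [Fintype G] (φ : G → (A →+* A))
    (h1 : φ 1 = RingHom.id A) (hmul : ∀ g h a, φ g (φ h a) = φ (g * h) a)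
    (hspan : Ideal.span (Set.range fun a => ∑ g, φ g a) = ⊤) : ∃ a, ∑ g, φ g a = 1 := by
  classical
  rcases subsingleton_or_nontrivial A with hA | hA
  · exact ⟨0, Subsingleton.elim _ _⟩
  let B : Subring A := ⨅ g, RingHom.eqLocus (φ g) (RingHom.id A)
  have memB : ∀ a, a ∈ B ↔ ∀ g, φ g a = a := fun a => Subring.mem_iInf
  let N : A → B := fun a => ⟨∑ g, φ g a, (memB _).2 fun k => by
    rw [map_sum]
    simp only [hmul]
    exact Fintype.sum_equiv (Equiv.mulLeft k) _ _ fun g => rfl⟩
  let I : Ideal B :=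
    { carrier := Set.range N
      zero_mem' := ⟨0, Subtype.ext (by simp [N])⟩
      add_mem' := by
        rintro _ _ ⟨a, rfl⟩ ⟨b, rfl⟩
        exact ⟨a + b, Subtype.ext (by simp [N, Finset.sum_add_distrib])⟩
      smul_mem' := by
        rintro c _ ⟨a, rfl⟩
        refine ⟨c.1 * a, Subtype.ext ?_⟩
        simp [N, (memB c.1).1 c.2, Finset.mul_sum] }
  have hmap : I.map B.subtype = ⊤ := by
    refine eq_top_iff.2 (hspan.ge.trans (Ideal.span_le.2 ?_))
    rintro _ ⟨a, rfl⟩
    exact Ideal.mem_map_of_mem B.subtype (show N a ∈ I from ⟨a, rfl⟩)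
  have hint : B.subtype.IsIntegral := fun a => by
    let p : A[X] := ∏ g, (Polynomial.X - Polynomial.C (φ g a))
    have hp : p ∈ Polynomial.lifts B.subtype := by
      refine (Polynomial.lifts_iff_coeff_lifts p).2 fun n => ⟨⟨p.coeff n, (memB _).2 fun k => ?_⟩, rfl⟩
      have : p.map (φ k) = p := by
        simp only [p, Polynomial.map_prod, Polynomial.map_sub, Polynomial.map_X, Polynomial.map_C, hmul]
        exact Fintype.prod_equiv (Equiv.mulLeft k) _ _ fun g => rfl
      rw [← Polynomial.coeff_map, this]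
    obtain ⟨q, hq, -, hqm⟩ := Polynomial.lifts_and_degree_eq_and_monic hp
      (Polynomial.monic_prod_of_monic _ _ fun g _ => Polynomial.monic_X_sub_C _)
    refine ⟨q, hqm, ?_⟩
    rw [Polynomial.eval₂_eq_eval_map, hq, Polynomial.eval_prod]
    exact Finset.prod_eq_zero (Finset.mem_univ 1) (by simp [h1])
  have hI : I = ⊤ := (Ideal.map_eq_top_iff B.subtype Subtype.val_injective hint).1 hmap
  obtain ⟨a, ha⟩ : (1 : B) ∈ I := hI ▸ Submodule.mem_top
  exact ⟨a, congrArg Subtype.val ha⟩

theorem appTop_mul {T : Scheme.{u}} {G : Type} [Group G] (ρ : G → (T ⟶ T))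
    (hmul : ∀ g h, ρ g ≫ ρ h = ρ (h * g)) (g h : G) (a : Γ(T, ⊤)) :
    (ρ g).appTop.hom ((ρ h).appTop.hom a) = (ρ (h * g)).appTop.hom a := by
  rw [← hmul, Scheme.Hom.comp_appTop]
  rfl

/-- A free action on an affine scheme has a function of trace one. -/
theorem exists_trace_eq_one_of_free {T : Scheme.{u}} [IsAffine T] {G : Type} [Group G] [Fintype G] (ρ : G → (T ⟶ T))
    (h1 : ρ 1 = 𝟙 T) (hmul : ∀ g h, ρ g ≫ ρ h = ρ (h * g))
    (hfree : ∀ (K : Type u) [Field K] (s : Spec (CommRingCat.of K) ⟶ T), Function.Injective fun g => s ≫ ρ g) :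
    ∃ a : Γ(T, ⊤), ∑ g, (ρ g).appTop.hom a = 1 := by
  classical
  let φ : G → (Γ(T, ⊤) →+* Γ(T, ⊤)) := fun g => (ρ g⁻¹).appTop.hom
  obtain ⟨a, ha⟩ := exists_trace_eq_one φ (by simp [φ, h1])
    (fun g h a => by rw [appTop_mul ρ hmul, ← mul_inv_rev]) (by
      by_contra hne
      obtain ⟨m, hm, hle⟩ := Ideal.exists_le_maximal _ hne
      letI := Ideal.Quotient.field m
      let f : Γ(T, ⊤) ⟶ CommRingCat.of (Γ(T, ⊤) ⧸ m) := CommRingCat.ofHom (Ideal.Quotient.mk m)
      let s : Spec (CommRingCat.of (Γ(T, ⊤) ⧸ m)) ⟶ T := Spec.map f ≫ T.isoSpec.inv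
      have hs : ∀ b, (Scheme.ΓSpecIso _).hom.hom (s.appTop.hom b) = Ideal.Quotient.mk m b := fun b => by
        have : s.appTop ≫ (Scheme.ΓSpecIso _).hom = f := by
          have e : T.isoSpec.inv.appTop ≫ (Scheme.ΓSpecIso Γ(T, ⊤)).hom = 𝟙 _ := by
            have h : T.isoSpec.hom.appTop = (Scheme.ΓSpecIso Γ(T, ⊤)).hom := T.toSpecΓ_appTop
            rw [← h, ← Scheme.Hom.comp_appTop, Iso.hom_inv_id, Scheme.Hom.id_appTop]
          show (Spec.map f ≫ T.isoSpec.inv).appTop ≫ _ = f
          rw [Scheme.Hom.comp_appTop, Category.assoc, Scheme.ΓSpecIso_naturality, reassoc_of% e]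
        exact congrArg (fun t : Γ(T, ⊤) ⟶ CommRingCat.of (Γ(T, ⊤) ⧸ m) => t.hom b) this
      let χ : G → (Γ(T, ⊤) →* Γ(T, ⊤) ⧸ m) := fun g =>
        ((Ideal.Quotient.mk m).comp (φ g)).toMonoidHom
      have hinj : Function.Injective χ := fun g h e => by
        refine inv_injective (hfree _ s (ext_of_isAffine ?_))
        refine (cancel_mono (Scheme.ΓSpecIso _).hom).1 (CommRingCat.hom_ext (RingHom.ext fun b => ?_))
        simp only [Scheme.Hom.comp_appTop]
        exact (hs _).trans ((DFunLike.congr_fun e b).trans (hs _).symm)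
      have hli := (linearIndependent_monoidHom Γ(T, ⊤) (Γ(T, ⊤) ⧸ m)).comp χ hinj
      have := Fintype.linearIndependent_iff.1 hli (fun _ => 1) (funext fun b => by
        simp only [Finset.sum_apply, Function.comp_apply, Pi.smul_apply, smul_eq_mul, one_mul, Pi.zero_apply]
        show ∑ g, Ideal.Quotient.mk m (φ g b) = 0
        rw [← map_sum]
        exact Ideal.Quotient.eq_zero_iff_mem.2 (hle (Ideal.subset_span ⟨b, rfl⟩))) 1
      exact one_ne_zero this)
  exact ⟨a, (Fintype.sum_equiv (Equiv.inv G) _ _ fun g => by simp [φ]).trans ha⟩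

end Groth.Agent.AlgSpShriek
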