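import Groth.Agent.AlgSpShriek.Prop
import Groth.Agent.AlgSpShriek.Trace

/-! Orbit presheaves of finite group actions on objects of the small étale site. -/

set_option autoImplicit false
set_option linter.style.haveILetI false
set_option linter.unusedSectionVars false
set_option backward.isDefEq.respectTransparency false
set_option backward.isDefEq.respectTransparency.types false
set_option maxHeartbeats 1000000
set_option synthInstance.maxHeartbeats 400000

universe u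

open CategoryTheory Limits AlgebraicGeometry Opposite DerivedCategory
open Groth.Agent.AlgSpQC Groth.Agent.AlgSpFT Groth.Agent.RlimCrit Groth.Agent.AlgSpRlim

attribute [local instance] HasDerivedCategory.standard

noncomputable section

namespace Groth.Agent.AlgSpShriek

variable {S : Scheme.{u}} {X : AlgSp.Sp S}

/-- The points of an object. -/
abbrev pts (E : AlgSp.EtOver X) : Scheme.{u} := E.obj.left.left

/-- The map of points. -/
abbrev ptMap {E E' : AlgSp.EtOver X} (f : E ⟶ E') : pts E ⟶ pts E' := f.hom.left.left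

theorem hom_ext_pt {E E' : AlgSp.EtOver X} (f g : E ⟶ E') (h : ptMap f = ptMap g) : f = g :=
  AlgSp.EtOver.hom_ext f g (Over.OverMorphism.ext h)

/-- A morphism lands in an open set. -/
def Lands {E W : AlgSp.EtOver X} (O : (pts W).Opens) (ψ : E ⟶ W) : Prop := ∀ t, ptMap ψ t ∈ O

theorem Lands.comp {E E' W : AlgSp.EtOver X} {O : (pts W).Opens} {ψ : E ⟶ W} (h : Lands O ψ) (f : E' ⟶ E) :
    Lands O (f ≫ ψ) := fun t => h (ptMap f t)

/-- Factorization through an open subobject. -/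
def liftOpen {E W : AlgSp.EtOver X} {O : (pts W).Opens} (ψ : E ⟶ W) (h : Lands O ψ) : E ⟶ openObj W O :=
  haveI : IsOpenImmersion O.ι := inferInstance
  AlgSp.EtOver.homMk
    (Over.homMk (IsOpenImmersion.lift O.ι (ptMap ψ) (by
        rintro _ ⟨t, rfl⟩
        exact O.range_ι.ge (h t)))
      (by
        refine Eq.trans ?_ (Over.w ψ.hom.left)
        show _ ≫ O.ι ≫ W.obj.left.hom = _
        rw [IsOpenImmersion.lift_fac_assoc]))
    (by
      refine Eq.trans ?_ (AlgSp.EtOver.w ψ)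
      show _ ≫ (AlgSp.yon S).map _ ≫ W.obj.hom = _
      rw [← Functor.map_comp_assoc]
      refine congrArg (fun t => (AlgSp.yon S).map t ≫ W.obj.hom) (Over.OverMorphism.ext ?_)
      exact IsOpenImmersion.lift_fac _ _ _)

theorem liftOpen_comp {E W : AlgSp.EtOver X} {O : (pts W).Opens} (ψ : E ⟶ W) (h : Lands O ψ) :
    liftOpen ψ h ≫ openObjHom W O = ψ := hom_ext_pt _ _ (IsOpenImmersion.lift_fac _ _ _)

theorem openObjHom_mono {E W : AlgSp.EtOver X} {O : (pts W).Opens} (f g : E ⟶ openObj W O)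
    (h : f ≫ openObjHom W O = g ≫ openObjHom W O) : f = g :=
  hom_ext_pt _ _ ((cancel_mono O.ι).1 (congrArg ptMap h))

theorem lands_openObjHom (W : AlgSp.EtOver X) (O : (pts W).Opens) : Lands O (openObjHom W O) := fun t => t.2

/-- The inclusion of open subobjects. -/
def openLE (W : AlgSp.EtOver X) {A B : (pts W).Opens} (h : A ≤ B) : openObj W A ⟶ openObj W B :=
  liftOpen (openObjHom W A) fun t => h t.2

/-- The empty family covers an object without points. -/
theorem bot_mem_of_isEmpty (E : AlgSp.EtOver X) (h : IsEmpty ↥(pts E)) : ⊥ ∈ AlgSp.etTop X E := by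
  refine GrothendieckTopology.superset_covering _ ?_
    (AlgSp.ofArrows_mem_etTop (fun i : PEmpty.{1} => i.elim) (fun i => i.elim) fun x => h.elim x)
  intro Y f hf
  obtain ⟨i, -, -⟩ := (Sieve.mem_ofArrows_iff _ _ _).1 hf
  exact i.elim

/-- Two open sets covering an object give a covering. -/
theorem exists_cover_two (E : AlgSp.EtOver X) (O₁ O₂ : (pts E).Opens) (h : ∀ t, t ∈ O₁ ∨ t ∈ O₂) :
    ∃ T ∈ AlgSp.etTop X E, ∀ ⦃E' : AlgSp.EtOver X⦄ (g : E' ⟶ E), T.arrows g → Lands O₁ g ∨ Lands O₂ g := by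
  refine ⟨_, AlgSp.ofArrows_mem_etTop (fun b : Bool => bif b then openObj E O₁ else openObj E O₂)
    (fun b => match b with
      | true => openObjHom E O₁
      | false => openObjHom E O₂) (fun t => ?_), fun E' g hg => ?_⟩
  · rcases h t with ht | ht
    · exact ⟨true, ⟨t, ht⟩, rfl⟩
    · exact ⟨false, ⟨t, ht⟩, rfl⟩
  · obtain ⟨b, r, rfl⟩ := (Sieve.mem_ofArrows_iff _ _ _).1 hg
    cases b
    · exact Or.inr ((lands_openObjHom E O₂).comp r)
    · exact Or.inl ((lands_openObjHom E O₁).comp r)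

variable {K : CochainComplex (AlgSp.ModEt X) ℤ} {H : (AlgSp.EtOver X)ᵒᵖ ⥤ Type (u + 1)}

/-- Compatible families of conditions on sections, indexed by the open sets of an object. -/
structure OpenConds (H : (AlgSp.EtOver X)ᵒᵖ ⥤ Type (u + 1)) (W : AlgSp.EtOver X) (good : (pts W).Opens → Prop) where
  p : (pts W).Opens → ∀ E : AlgSp.EtOver X, H.obj (op E) → Prop
  res : ∀ O {E E' : AlgSp.EtOver X} (g : E' ⟶ E) (x : H.obj (op E)), p O E x → p O E' (H.map g.op x)
  bot : ∀ E x, p ⊥ E x → ⊥ ∈ AlgSp.etTop X E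
  sup : ∀ A B, good A → good B → ∀ E x, p (A ⊔ B) E x →
    ∃ T ∈ AlgSp.etTop X E, ∀ ⦃E' : AlgSp.EtOver X⦄ (g : E' ⟶ E), T.arrows g →
      p A E' (H.map g.op x) ∨ p B E' (H.map g.op x)
  inf : ∀ A B, good A → good B → ∀ E x, (p A E x ∧ p B E x ↔ p (A ⊓ B) E x)
  mono : ∀ {A B}, A ≤ B → ∀ E x, p A E x → p B E x

namespace OpenConds

variable {W : AlgSp.EtOver X} {good : (pts W).Opens → Prop} (c : OpenConds H W good)

/-- The subpresheaf of an open set. -/
abbrev sub (O : (pts W).Opens) : (AlgSp.EtOver X)ᵒᵖ ⥤ Type (u + 1) := subH H (c.p O) fun g x => c.res O g x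

theorem van_congr {p p' : ∀ E : AlgSp.EtOver X, H.obj (op E) → Prop}
    {hp : ∀ {E E' : AlgSp.EtOver X} (g : E' ⟶ E) (x : H.obj (op E)), p E x → p E' (H.map g.op x)}
    {hp' : ∀ {E E' : AlgSp.EtOver X} (g : E' ⟶ E) (x : H.obj (op E)), p' E x → p' E' (H.map g.op x)}
    (h : ∀ E x, p E x ↔ p' E x) (hv : Van K (subH H p hp)) : Van K (subH H p' hp') :=
  hv.of_iso
    { hom := subLE fun E x => (h E x).1
      inv := subLE fun E x => (h E x).2
      hom_inv_id := rfl
      inv_hom_id := rfl }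

theorem van_iSup (hbot : good ⊥) (hsup : ∀ A B, good A → good B → good (A ⊔ B)) (𝒞 : (pts W).Opens → Prop)
    (h𝒞 : ∀ A, 𝒞 A → good A) (hinf : ∀ A B, 𝒞 A → 𝒞 B → 𝒞 (A ⊓ B)) (hbase : ∀ A, 𝒞 A → Van K (c.sub A)) :
    ∀ (n : ℕ) (f : Fin n → (pts W).Opens), (∀ i, 𝒞 (f i)) → good (⨆ i, f i) ∧ Van K (c.sub (⨆ i, f i))
  | 0, f, _ => by
    have e : (⨆ i, f i) = ⊥ := iSup_of_empty _
    rw [e]
    exact ⟨hbot, van_of_local fun E x => c.bot E x.1 x.2⟩
  | n + 1, f, hf => by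
    obtain ⟨g₁, h₁⟩ := van_iSup hbot hsup 𝒞 h𝒞 hinf hbase n (fun i : Fin n => f i.castSucc) fun i => hf _
    obtain ⟨-, h₀⟩ := van_iSup hbot hsup 𝒞 h𝒞 hinf hbase n (fun i : Fin n => f i.castSucc ⊓ f (Fin.last n))
      fun i => hinf _ _ (hf _) (hf _)
    have g₂ := h𝒞 _ (hf (Fin.last n))
    let A := ⨆ i : Fin n, f i.castSucc
    let B := f (Fin.last n)
    have e : (⨆ i, f i) = A ⊔ B := le_antisymm (iSup_le fun i => Fin.lastCases le_sup_right
      (fun j => le_sup_of_le_left (le_iSup (fun i : Fin n => f i.castSucc) j)) i)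
      (sup_le (iSup_le fun i => le_iSup f _) (le_iSup f _))
    rw [e]
    refine ⟨hsup _ _ g₁ g₂, Van.mv (van_congr (fun E x => ((c.inf A B g₁ g₂ E x).trans ?_).symm) h₀) h₁ (hbase _ (hf _))
      (MVData.ofSub (J := AlgSp.etTop X) (p₁ := c.p A) (p₂ := c.p B) (p₃ := c.p (A ⊔ B))
        (fun E x => c.mono le_sup_left E x) (fun E x => c.mono le_sup_right E x) (c.sup A B g₁ g₂))⟩
    rw [show A ⊓ B = ⨆ i : Fin n, f i.castSucc ⊓ f (Fin.last n) from iSup_inf_eq _ _]

end OpenConds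

/-- Morphisms landing in open sets. -/
def landConds (W : AlgSp.EtOver X) : OpenConds (yW W) W fun _ => True where
  p O E x := Lands O x.down
  res O E E' g x h := h.comp g
  bot E x h := bot_mem_of_isEmpty E ⟨fun t => h t⟩
  sup A B _ _ E x h := by
    obtain ⟨T, hT, hT'⟩ := exists_cover_two E (ptMap x.down ⁻¹ᵁ A) (ptMap x.down ⁻¹ᵁ B) fun t => h t
    exact ⟨T, hT, fun E' g hg => (hT' g hg).imp (fun hl t => hl t) fun hl t => hl t⟩
  inf A B _ _ E x := ⟨fun h t => ⟨h.1 t, h.2 t⟩, fun h => ⟨fun t => (h t).1, fun t => (h t).2⟩⟩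
  mono h E x hx t := h (hx t)

theorem van_land_of_openObj (W : AlgSp.EtOver X) (O : (pts W).Opens) (h : Van K (yW (openObj W O))) :
    Van K ((landConds W).sub O) := by
  let β : yW (openObj W O) ⟶ (landConds W).sub O :=
    subLift (uliftYoneda.{u + 1}.map (openObjHom W O)) fun E x => (lands_openObjHom W O).comp x.down
  haveI : ∀ E, IsIso (β.app E) := fun E => (isIso_iff_bijective _).2 ⟨fun x y e => ULift.ext _ _
    (openObjHom_mono _ _ (congrArg (fun z : ((landConds W).sub O).obj E => z.1.down) e)), fun x =>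
    ⟨ULift.up (liftOpen x.1.down x.2), Subtype.ext (ULift.ext _ _ (liftOpen_comp x.1.down x.2))⟩⟩
  haveI : IsIso β := NatIso.isIso_of_isIso_app β
  exact h.of_iso (asIso β)

/-- Compact open sets of separated objects near each of whose points the complex is strictly perfect. -/
theorem van_land (W : AlgSp.EtOver X) [(pts W).IsSeparated]
    (hloc : ∀ w : ↥(pts W), ∃ O : (pts W).Opens, w ∈ O ∧ ∃ V, IsSP K V ∧ Nonempty (openObj W O ⟶ V))
    (A : (pts W).Opens) (hA : IsCompact (A : Set ↥(pts W))) : Van K ((landConds W).sub A) := by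
  let 𝒞 : (pts W).Opens → Prop := fun B => IsAffineOpen B ∧ ∃ V, IsSP K V ∧ Nonempty (openObj W B ⟶ V)
  have hinf : ∀ B B', 𝒞 B → 𝒞 B' → 𝒞 (B ⊓ B') := fun B B' hB hB' => by
    obtain ⟨hB1, V, hV, ⟨g⟩⟩ := hB
    exact ⟨hB1.inf hB'.1, V, hV, ⟨openLE W inf_le_left ≫ g⟩⟩
  have hbase : ∀ B, 𝒞 B → Van K ((landConds W).sub B) := fun B hB => by
    obtain ⟨hB1, V, hV, ⟨g⟩⟩ := hB
    exact van_land_of_openObj W B (van_affine g (aff_openObj W hB1) hV)
  have hnb : ∀ a : ↥A, ∃ B, 𝒞 B ∧ a.1 ∈ B ∧ B ≤ A := fun a => by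
    obtain ⟨O, hO, V, hV, ⟨g⟩⟩ := hloc a.1
    obtain ⟨B, hB, haB, hBsub⟩ := exists_isAffineOpen_mem_and_subset (x := a.1) (U := O ⊓ A) ⟨hO, a.2⟩
    exact ⟨B, ⟨hB, V, hV, ⟨openLE W (fun x hx => (hBsub hx).1) ≫ g⟩⟩, haB, fun x hx => (hBsub hx).2⟩
  choose B hB hmem hle using hnb
  obtain ⟨I, hI⟩ := hA.elim_finite_subcover (fun a => (B a : Set ↥(pts W))) (fun a => (B a).isOpen)
    (fun x hx => Set.mem_iUnion.2 ⟨⟨x, hx⟩, hmem _⟩)
  obtain ⟨-, h⟩ := (landConds W).van_iSup trivial (fun _ _ _ _ => trivial) 𝒞 (fun _ _ => trivial) hinf hbase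
    I.card (fun i => B (I.equivFin.symm i).1) fun i => hB _
  have e : (⨆ i, B (I.equivFin.symm i).1) = A := le_antisymm (iSup_le fun i => hle _) fun x hx => by
    obtain ⟨a, ha, hxa⟩ := Set.mem_iUnion₂.1 (hI hx)
    exact TopologicalSpace.Opens.mem_iSup.2 ⟨I.equivFin ⟨a, ha⟩, by rw [Equiv.symm_apply_apply]; exact hxa⟩
  rw [← e]
  exact h

/-- An action of a finite group on an object. -/
structure GAct (W : AlgSp.EtOver X) (G : Type) [Group G] where
  r : G → (W ⟶ W)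
  r_one : r 1 = 𝟙 W
  r_mul : ∀ g h, r g ≫ r h = r (h * g)

variable {W : AlgSp.EtOver X} {G : Type} [Group G] [Fintype G] (a : GAct W G)

/-- Morphisms in one orbit. -/
def orbitRel (E : AlgSp.EtOver X) : Setoid ((yW W).obj (op E)) where
  r ψ ψ' := ∃ g, ψ'.down = ψ.down ≫ a.r g
  iseqv :=
    { refl := fun ψ => ⟨1, by rw [a.r_one, Category.comp_id]⟩
      symm := fun {ψ ψ'} ⟨g, hg⟩ => ⟨g⁻¹, by rw [hg, Category.assoc, a.r_mul, inv_mul_cancel, a.r_one, Category.comp_id]⟩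
      trans := fun {ψ ψ' ψ''} ⟨g, hg⟩ ⟨g', hg'⟩ => ⟨g' * g, by rw [hg', hg, Category.assoc, a.r_mul]⟩ }

/-- The presheaf of orbits of morphisms. -/
def HQ : (AlgSp.EtOver X)ᵒᵖ ⥤ Type (u + 1) where
  obj E := Quotient (orbitRel a E.unop)
  map {E E'} g := TypeCat.ofHom (Quotient.map (fun ψ => ULift.up (g.unop ≫ ψ.down)) fun ψ ψ' ⟨k, hk⟩ =>
    ⟨k, by show g.unop ≫ ψ'.down = (g.unop ≫ ψ.down) ≫ a.r k; rw [hk, Category.assoc]⟩)
  map_id E := by
    ext x
    induction x using Quotient.ind with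
    | _ ψ => exact Quotient.sound ⟨1, by rw [a.r_one, Category.comp_id]; exact (Category.id_comp _).symm⟩
  map_comp {E E' E''} g g' := by
    ext x
    induction x using Quotient.ind with
    | _ ψ => exact Quotient.sound ⟨1, by rw [a.r_one, Category.comp_id]; exact (Category.assoc _ _ _).symm⟩

/-- The orbit of a morphism. -/
def orb {E : AlgSp.EtOver X} (ψ : E ⟶ W) : (HQ a).obj (op E) := Quotient.mk (orbitRel a E) (ULift.up ψ)

theorem orb_eq_iff {E : AlgSp.EtOver X} (ψ ψ' : E ⟶ W) : orb a ψ = orb a ψ' ↔ ∃ g, ψ' = ψ ≫ a.r g :=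
  Quotient.eq (r := orbitRel a E)

theorem map_orb {E E' : AlgSp.EtOver X} (g : E' ⟶ E) (ψ : E ⟶ W) : (HQ a).map g.op (orb a ψ) = orb a (g ≫ ψ) := rfl

theorem exists_orb {E : AlgSp.EtOver X} (x : (HQ a).obj (op E)) : ∃ ψ : E ⟶ W, orb a ψ = x := by
  obtain ⟨⟨ψ⟩, h⟩ := Quotient.exists_rep (s := orbitRel a E) x
  exact ⟨ψ, h⟩

/-- Invariant open sets. -/
def Stable (O : (pts W).Opens) : Prop := ∀ g w, ptMap (a.r g) w ∈ O ↔ w ∈ O

theorem lands_of_orb_eq {O : (pts W).Opens} (hO : Stable a O) {E : AlgSp.EtOver X} {ψ ψ' : E ⟶ W}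
    (h : orb a ψ = orb a ψ') (hl : Lands O ψ) : Lands O ψ' := by
  obtain ⟨g, rfl⟩ := (orb_eq_iff a _ _).1 h
  exact fun t => (hO g _).2 (hl t)

/-- Orbits landing in open sets. -/
def orbConds : OpenConds (HQ a) W (Stable a) where
  p O E x := ∃ ψ, orb a ψ = x ∧ Lands O ψ
  res O E E' g x := fun ⟨ψ, hψ, hl⟩ => ⟨g ≫ ψ, by rw [← hψ, map_orb], hl.comp g⟩
  bot E x := fun ⟨ψ, _, hl⟩ => bot_mem_of_isEmpty E ⟨fun t => hl t⟩
  sup A B _ _ E x := by
    rintro ⟨ψ, rfl, hl⟩
    obtain ⟨T, hT, hT'⟩ := exists_cover_two E (ptMap ψ ⁻¹ᵁ A) (ptMap ψ ⁻¹ᵁ B) fun t => hl t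
    refine ⟨T, hT, fun E' g hg => (hT' g hg).imp (fun h => ?_) fun h => ?_⟩ <;>
      exact ⟨g ≫ ψ, (map_orb a g ψ).symm, fun t => h t⟩
  inf A B _ hB E x := by
    constructor
    · rintro ⟨⟨ψ, rfl, hA⟩, ⟨ψ', h, hB'⟩⟩
      exact ⟨ψ, rfl, fun t => ⟨hA t, lands_of_orb_eq a hB h hB' t⟩⟩
    · rintro ⟨ψ, rfl, h⟩
      exact ⟨⟨ψ, rfl, fun t => (h t).1⟩, ⟨ψ, rfl, fun t => (h t).2⟩⟩
  mono h E x := fun ⟨ψ, hψ, hl⟩ => ⟨ψ, hψ, fun t => h (hl t)⟩

/-- No morphism from a field-valued point is fixed by a nontrivial element. -/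
def Free : Prop :=
  ∀ (L : Type u) [Field L] (s : Spec (CommRingCat.of L) ⟶ pts W), Function.Injective fun g => s ≫ ptMap (a.r g)

theorem OEt_map_up {E E' : AlgSp.EtOver X} (g : E' ⟶ E) (s : Γ(pts E, ⊤)) :
    (AlgSp.OEtRing X).obj.map g.op (ULift.up s) = ULift.up ((ptMap g).appTop.hom s) := rfl

/-- The property for the orbits landing in an invariant affine open set. -/
theorem van_orb_affine (hfree : Free a) (A : (pts W).Opens) (hA : IsAffineOpen A) (hst : Stable a A)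
    (h : Van K ((landConds W).sub A)) : Van K ((orbConds a).sub A) := by
  let B := openObj W A
  haveI : IsAffine (pts B) := hA
  let j := openObjHom W A
  have hland : ∀ g, Lands A (j ≫ a.r g) := fun g t => (hst g _).2 t.2
  let ρ : G → (B ⟶ B) := fun g => liftOpen (j ≫ a.r g) (hland g)
  have hρ : ∀ g, ρ g ≫ j = j ≫ a.r g := fun g => liftOpen_comp _ _
  have hρmul : ∀ g h, ρ g ≫ ρ h = ρ (h * g) := fun g h => openObjHom_mono _ _ (by
    rw [Category.assoc, hρ, ← Category.assoc, hρ, Category.assoc, a.r_mul, hρ])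
  have hρone : ρ 1 = 𝟙 B := openObjHom_mono _ _ (by rw [hρ, a.r_one, Category.comp_id, Category.id_comp])
  obtain ⟨t, ht⟩ := exists_trace_eq_one_of_free (fun g => ptMap (ρ g)) (congrArg ptMap hρone)
    (fun g h => congrArg ptMap (hρmul g h)) (fun L _ s g g' e => hfree L (s ≫ ptMap j) (by
      have e' := congrArg (· ≫ ptMap j) e
      simp only [Category.assoc] at e' ⊢
      refine Eq.trans ?_ (e'.trans ?_)
      · exact congrArg (s ≫ ·) (congrArg ptMap (hρ g)).symm
      · exact congrArg (s ≫ ·) (congrArg ptMap (hρ g'))))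
  let Hs := (landConds W).sub A
  let Ht := (orbConds a).sub A
  let π : Hs ⟶ Ht :=
    { app := fun E => TypeCat.ofHom fun x => ⟨orb a x.1.down, x.1.down, rfl, x.2⟩
      naturality := fun E E' g => by ext x; exact Subtype.ext (map_orb a g.unop x.1.down).symm }
  let act : G → (Hs ⟶ Hs) := fun g =>
    { app := fun E => TypeCat.ofHom fun x => ⟨ULift.up (x.1.down ≫ a.r g), fun p => (hst g _).2 (x.2 p)⟩
      naturality := fun E E' k => by ext x; exact Subtype.ext (ULift.ext _ _ (Category.assoc _ _ _)) }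
  let D : QData (AlgSp.OEtRing X).obj π G :=
    { act := act
      act_mul := fun g g' E x => Subtype.ext (ULift.ext _ _ ((congrArg (x.1.down ≫ ·) (a.r_mul g' g).symm).trans
        (Category.assoc _ _ _).symm))
      orbit := fun E x y => by
        refine ⟨fun e => ?_, ?_⟩
        · obtain ⟨g, hg⟩ := (orb_eq_iff a _ _).1 (congrArg (fun z : Ht.obj (op E) => z.1) e)
          exact ⟨g, Subtype.ext (ULift.ext _ _ hg)⟩
        · rintro ⟨g, rfl⟩
          exact Subtype.ext ((orb_eq_iff a _ _).2 ⟨g, rfl⟩)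
      surj := fun E x => by
        obtain ⟨z, ψ, rfl, hl⟩ := x
        exact ⟨⟨ULift.up ψ, hl⟩, Subtype.ext rfl⟩
      t := fun E x => ULift.up ((ptMap (liftOpen x.1.down x.2)).appTop.hom t)
      t_nat := fun {E E'} g x => by
        refine Eq.trans ?_ (OEt_map_up g _).symm
        refine congrArg ULift.up ?_
        have e : liftOpen (g ≫ x.1.down) (x.2.comp g) = g ≫ liftOpen x.1.down x.2 :=
          openObjHom_mono _ _ (by rw [liftOpen_comp, Category.assoc, liftOpen_comp])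
        show (ptMap (liftOpen (g ≫ x.1.down) (x.2.comp g))).appTop.hom t = _
        rw [e]
        exact congrArg (fun f => f.hom t) (Scheme.Hom.comp_appTop (ptMap g) (ptMap (liftOpen x.1.down x.2)))
      t_comm := fun E x r => mul_comm (G := ((AlgSp.OEt X).obj.obj (op E) : Type (u + 1))) _ r
      sum_one := fun E x => by
        have e : ∀ g, liftOpen (x.1.down ≫ a.r g) (fun p => (hst g _).2 (x.2 p)) = liftOpen x.1.down x.2 ≫ ρ g :=
          fun g => openObjHom_mono _ _ (by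
            rw [liftOpen_comp, Category.assoc, hρ, ← Category.assoc, liftOpen_comp])
        let l := ptMap (liftOpen x.1.down x.2)
        let U : Γ(pts E, ⊤) →+ (AlgSp.OEtRing X).obj.obj (op E) :=
          { toFun := ULift.up, map_zero' := rfl, map_add' := fun _ _ => rfl }
        show ∑ g, U ((ptMap (liftOpen (x.1.down ≫ a.r g) (fun p => (hst g _).2 (x.2 p)))).appTop.hom t) = _
        rw [← map_sum]
        refine Eq.trans (congrArg U ?_) (show U 1 = 1 from rfl)
        rw [Finset.sum_congr rfl fun g _ => congrArg (fun f : E ⟶ B => (ptMap f).appTop.hom t) (e g)]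
        refine Eq.trans ?_ ((congrArg l.appTop.hom ht).trans (map_one _))
        rw [map_sum]
        exact Finset.sum_congr rfl fun g _ => congrArg (fun f => f.hom t) (Scheme.Hom.comp_appTop l (ptMap (ρ g))) }
  exact h.of_qdata D

/-- The property for the orbits landing in invariant compact open sets. -/
theorem van_orb (hfree : Free a) [(pts W).IsSeparated]
    (hloc : ∀ w : ↥(pts W), ∃ O : (pts W).Opens, w ∈ O ∧ ∃ V, IsSP K V ∧ Nonempty (openObj W O ⟶ V))
    (hfin : ∀ T : Finset ↥(pts W), ∀ O : (pts W).Opens, (∀ x ∈ T, x ∈ O) →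
      ∃ A : (pts W).Opens, IsAffineOpen A ∧ A ≤ O ∧ ∀ x ∈ T, x ∈ A)
    (O : (pts W).Opens) (hOs : Stable a O) (hO : IsCompact (O : Set ↥(pts W))) : Van K ((orbConds a).sub O) := by
  classical
  let 𝒞 : (pts W).Opens → Prop := fun B => IsAffineOpen B ∧ Stable a B
  have hinfst : ∀ A B, Stable a A → Stable a B → Stable a (A ⊓ B) := fun A B hA hB g w =>
    ⟨fun h => ⟨(hA g w).1 h.1, (hB g w).1 h.2⟩, fun h => ⟨(hA g w).2 h.1, (hB g w).2 h.2⟩⟩
  have hsupst : ∀ A B, Stable a A → Stable a B → Stable a (A ⊔ B) := fun A B hA hB g w =>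
    or_congr (hA g w) (hB g w)
  have hnb : ∀ x : ↥O, ∃ B, 𝒞 B ∧ x.1 ∈ B ∧ B ≤ O := fun x => by
    obtain ⟨A, hA, hAO, hAT⟩ := hfin (Finset.univ.image fun g => ptMap (a.r g) x.1) O (by
      rintro y hy
      obtain ⟨g, -, rfl⟩ := Finset.mem_image.1 hy
      exact (hOs g _).2 x.2)
    haveI : ∀ g, IsIso (ptMap (a.r g)) := fun g => ⟨ptMap (a.r g⁻¹),
      (congrArg ptMap (a.r_mul g g⁻¹)).trans (by rw [inv_mul_cancel, a.r_one]; rfl),
      (congrArg ptMap (a.r_mul g⁻¹ g)).trans (by rw [mul_inv_cancel, a.r_one]; rfl)⟩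
    have hne : (Finset.univ : Finset G).Nonempty := ⟨1, Finset.mem_univ 1⟩
    refine ⟨Finset.univ.inf' hne fun g => ptMap (a.r g) ⁻¹ᵁ A,
      ⟨Finset.inf'_induction hne _ (fun B hB B' hB' => hB.inf hB') fun g _ => hA.preimage_of_isIso _, fun g w => ?_⟩,
      ?_, ?_⟩
    · have hm : ∀ z, (z ∈ Finset.univ.inf' hne fun g => ptMap (a.r g) ⁻¹ᵁ A) ↔ ∀ k, ptMap (a.r k) z ∈ A := fun z => by
        show z ∈ ((Finset.univ.inf' hne fun g => ptMap (a.r g) ⁻¹ᵁ A : (pts W).Opens) : Set ↥(pts W)) ↔ _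
        rw [Finset.inf'_eq_inf, TopologicalSpace.Opens.coe_finset_inf]
        simp [Set.mem_iInter]
      rw [hm, hm]
      have e : ∀ k z, ptMap (a.r k) (ptMap (a.r g) z) = ptMap (a.r (k * g)) z := fun k z => by
        rw [← a.r_mul]; rfl
      simp only [e]
      exact ⟨fun h k => by simpa using h (k * g⁻¹), fun h k => h _⟩
    · show x.1 ∈ ((Finset.univ.inf' hne fun g => ptMap (a.r g) ⁻¹ᵁ A : (pts W).Opens) : Set ↥(pts W))
      rw [Finset.inf'_eq_inf, TopologicalSpace.Opens.coe_finset_inf]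
      simp [Set.mem_iInter]
      exact fun g => hAT _ (Finset.mem_image.2 ⟨g, Finset.mem_univ g, rfl⟩)
    · refine le_trans (Finset.inf'_le _ (Finset.mem_univ 1)) ?_
      rw [a.r_one]
      exact hAO
  choose B hB hmem hle using hnb
  obtain ⟨I, hI⟩ := hO.elim_finite_subcover (fun x => (B x : Set ↥(pts W))) (fun x => (B x).isOpen)
    (fun x hx => Set.mem_iUnion.2 ⟨⟨x, hx⟩, hmem _⟩)
  obtain ⟨-, h⟩ := (orbConds a).van_iSup (K := K) (fun g w => Iff.rfl) hsupst 𝒞 (fun _ h => h.2)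
    (fun A A' hA hA' => ⟨hA.1.inf hA'.1, hinfst _ _ hA.2 hA'.2⟩)
    (fun A hA => van_orb_affine a hfree A hA.1 hA.2 (van_land W hloc A hA.1.isCompact))
    I.card (fun i => B (I.equivFin.symm i).1) fun i => hB _
  have e : (⨆ i, B (I.equivFin.symm i).1) = O := le_antisymm (iSup_le fun i => hle _) fun x hx => by
    obtain ⟨y, hy, hxy⟩ := Set.mem_iUnion₂.1 (hI hx)
    exact TopologicalSpace.Opens.mem_iSup.2 ⟨I.equivFin ⟨y, hy⟩, by rw [Equiv.symm_apply_apply]; exact hxy⟩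
  rw [← e]
  exact h

end Groth.Agent.AlgSpShriek
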