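import Groth.Agent.AlgSpShriek.Elem

/-!
# Exact sequences of sheafified extensions by zero along presheaves of sets
-/

set_option autoImplicit false
set_option linter.style.haveILetI false
set_option linter.unusedSectionVars false
set_option backward.isDefEq.respectTransparency false
set_option backward.isDefEq.respectTransparency.types false
set_option maxHeartbeats 1000000

universe w v u

open CategoryTheory Limits Opposite DirectSum

noncomputable section

namespace Groth.Agent.AlgSpShriek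

variable {C : Type u} [Category.{v} C]

section Pre

variable {R : Cᵒᵖ ⥤ RingCat.{w}} (H : Cᵒᵖ ⥤ Type w) (M : PresheafOfModules.{w} R)

/-- A presheaf of modules on the elements. -/
abbrev preH : PresheafOfModules.{w} (elR H R) := (PresheafOfModules.pushforward₀ (elπ H) R).obj M

theorem gmap_preH {V W : C} {x : H.obj (op V)} {y : H.obj (op W)} (g : W ⟶ V) (h : H.map g.op x = y)
    (a : M.obj (op V)) : gmap H (preH H M) g h a = M.map g.op a := rfl

/-- The inclusion of a summand, with constant coefficients. -/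
def ιM (V : C) (x : H.obj (op V)) : M.obj (op V) →+ Tot H (preH H M) V := ι H (preH H M) V x

theorem resTot_ιM {V W : C} (g : W ⟶ V) (x : H.obj (op V)) (a : M.obj (op V)) :
    resTot H (preH H M) g (ιM H M V x a) = ιM H M W (H.map g.op x) (M.map g.op a) :=
  resTot_ι H (preH H M) g x rfl a

theorem ιM_smul (V : C) (x : H.obj (op V)) (r : R.obj (op V)) (a : M.obj (op V)) :
    ιM H M V x (r • a) = r • ιM H M V x a := ι_smul H (preH H M) V x r a

theorem totM_ext {V : C} {A : Type*} [AddCommMonoid A] {f f' : Tot H (preH H M) V →+ A}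
    (h : ∀ x a, f (ιM H M V x a) = f' (ιM H M V x a)) : f = f' := tot_ext H (preH H M) h

@[elab_as_elim]
theorem totM_induction {V : C} {P : Tot H (preH H M) V → Prop} (m : Tot H (preH H M) V) (h0 : P 0)
    (hι : ∀ x a, P (ιM H M V x a)) (hadd : ∀ m m', P m → P m' → P (m + m')) : P m :=
  tot_induction H (preH H M) m h0 hι hadd

open scoped Classical in
theorem ιM_apply (V : C) (x z : H.obj (op V)) (a : M.obj (op V)) :
    (show M.obj (op V) from ιM H M V x a z) = if x = z then a else 0 := by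
  split_ifs with h
  · subst h; exact DirectSum.of_eq_same (β := fun y : H.obj (op V) => fib H (preH H M) V y) x a
  · exact DirectSum.of_eq_of_ne (β := fun y : H.obj (op V) => fib H (preH H M) V y) x z a (Ne.symm h)

theorem tot_sum_apply {V : C} {κ : Type*} (s : Finset κ) (f : κ → Tot H (preH H M) V) (z : H.obj (op V)) :
    (show M.obj (op V) from (∑ l ∈ s, f l) z) = ∑ l ∈ s, (show M.obj (op V) from f l z) :=
  DFinsupp.finsetSum_apply s f z

theorem exists_fin_repr {V : C} (m : Tot H (preH H M) V) :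
    ∃ (n : ℕ) (x : Fin n → H.obj (op V)) (a : Fin n → M.obj (op V)), m = ∑ i, ιM H M V (x i) (a i) := by
  induction m using totM_induction with
  | h0 => exact ⟨0, Fin.elim0, Fin.elim0, by simp⟩
  | hι x a => exact ⟨1, fun _ => x, fun _ => a, by simp⟩
  | hadd m m' h h' =>
    obtain ⟨n, x, a, rfl⟩ := h
    obtain ⟨n', x', a', rfl⟩ := h'
    exact ⟨n + n', Fin.append x x', Fin.append a a', by simp [Fin.sum_univ_add]⟩

variable {H} {H' H'' : Cᵒᵖ ⥤ Type w}

open scoped Classical in
/-- Functoriality in the presheaf of sets, on sums. -/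
def hTot (f : H ⟶ H') (V : C) : Tot H (preH H M) V →+ Tot H' (preH H' M) V :=
  DirectSum.toAddMonoid fun x => ιM H' M V (f.app (op V) x)

theorem hTot_ιM (f : H ⟶ H') (V : C) (x : H.obj (op V)) (a : M.obj (op V)) :
    hTot M f V (ιM H M V x a) = ιM H' M V (f.app (op V) x) a := by
  classical
  exact DirectSum.toAddMonoid_of (fun x => ιM H' M V (f.app (op V) x)) x a

/-- Functoriality in the presheaf of sets. -/
def hPre (f : H ⟶ H') : gObj H (preH H M) ⟶ gObj H' (preH H' M) :=
  PresheafOfModules.homMk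
    { app := fun V => AddCommGrpCat.ofHom (hTot M f V.unop)
      naturality := fun V W g => by
        refine AddCommGrpCat.hom_ext (totM_ext H M fun x a => ?_)
        show hTot M f W.unop (resTot H (preH H M) g.unop (ιM H M V.unop x a)) =
          resTot H' (preH H' M) g.unop (hTot M f V.unop (ιM H M V.unop x a))
        rw [resTot_ιM, hTot_ιM, hTot_ιM, resTot_ιM]
        exact congrArg (fun z => ιM H' M W.unop z (M.map g a)) (NatTrans.naturality_apply f g x) }
    (fun V r m => by
      show hTot M f V.unop (r • (show Tot H (preH H M) V.unop from m)) =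
        r • (show Tot H' (preH H' M) V.unop from hTot M f V.unop m)
      generalize (show Tot H (preH H M) V.unop from m) = m'
      induction m' using totM_induction with
      | h0 => rw [smul_zero, map_zero, smul_zero]
      | hadd a b ha hb => rw [smul_add, map_add, map_add, ha, hb, smul_add]
      | hι x a => rw [← ιM_smul, hTot_ιM, hTot_ιM, ιM_smul])

theorem hPre_app (f : H ⟶ H') (V : C) (m : Tot H (preH H M) V) : (hPre M f).app (op V) m = hTot M f V m := rfl

theorem hPre_natural (f : H ⟶ H') {N : PresheafOfModules.{w} R} (φ : M ⟶ N) :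
    gMap ((PresheafOfModules.pushforward₀ (elπ H) R).map φ) ≫ hPre N f =
      hPre M f ≫ gMap ((PresheafOfModules.pushforward₀ (elπ H') R).map φ) := by
  refine PresheafOfModules.hom_ext fun V => ModuleCat.hom_ext (LinearMap.ext fun m => ?_)
  show hTot N f V.unop (mapTot ((PresheafOfModules.pushforward₀ (elπ H) R).map φ) V.unop
      (show Tot H (preH H M) V.unop from m)) =
    mapTot ((PresheafOfModules.pushforward₀ (elπ H') R).map φ) V.unop
      (hTot M f V.unop (show Tot H (preH H M) V.unop from m))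
  generalize (show Tot H (preH H M) V.unop from m) = m'
  induction m' using totM_induction with
  | h0 => simp only [map_zero]
  | hadd a b ha hb => simp only [map_add, ha, hb]
  | hι x a =>
    rw [hTot_ιM]
    refine ((congrArg (hTot N f V.unop) (mapTot_ι (G := preH H M) (G' := preH H N)
      ((PresheafOfModules.pushforward₀ (elπ H) R).map φ) V.unop x a)).trans (hTot_ιM _ f V.unop x _)).trans ?_
    exact (mapTot_ι (G := preH H' M) (G' := preH H' N) ((PresheafOfModules.pushforward₀ (elπ H') R).map φ)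
      V.unop (f.app (op V.unop) x) a).symm

end Pre

section Sh

variable {J : GrothendieckTopology C} (R : Sheaf J RingCat.{w}) [HasSheafify J AddCommGrpCat.{w}]
  [J.WEqualsLocallyBijective AddCommGrpCat.{w}]

/-- Sheafification of presheaves of modules. -/
abbrev shfR : PresheafOfModules.{w} R.obj ⥤ SheafOfModules.{w} R := PresheafOfModules.sheafification (𝟙 R.obj)

variable {R}

/-- A presheaf of modules with locally zero sections has zero sheafification. -/
theorem isZero_shf_of_local (P : PresheafOfModules.{w} R.obj)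
    (h : ∀ (V : C) (s : P.obj (op V)), ∃ T ∈ J V, ∀ ⦃W : C⦄ (g : W ⟶ V), T.arrows g → P.presheaf.map g.op s = 0) :
    IsZero ((shfR R).obj P) := by
  refine (IsZero.iff_id_eq_zero _).2 (SheafOfModules.hom_ext (PresheafOfModules.hom_ext fun V => ?_))
  induction V with
  | op V =>
  refine ModuleCat.hom_ext (LinearMap.ext fun s => ?_)
  let F := (shfR R).obj P
  let ψ := CategoryTheory.toSheafify J P.presheaf
  show (s : F.val.presheaf.obj (op V)) = 0
  have hsur := Presheaf.imageSieve_mem J ψ (show ToType ((CategoryTheory.sheafify J P.presheaf).obj (op V)) from s)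
  refine ((isSheaf_iff_isSheaf_of_type _ _).1
    (Presheaf.isSheaf_comp_of_isSheaf J F.val.presheaf (CategoryTheory.forget AddCommGrpCat.{w}) F.isSheaf) _ hsur).isSeparatedFor.ext
      fun W g hg => ?_
  obtain ⟨t, ht⟩ := hg
  obtain ⟨T, hT, hT0⟩ := h W t
  refine ((isSheaf_iff_isSheaf_of_type _ _).1
    (Presheaf.isSheaf_comp_of_isSheaf J F.val.presheaf (CategoryTheory.forget AddCommGrpCat.{w}) F.isSheaf) _ hT).isSeparatedFor.ext
      fun W' g' hg' => ?_
  show F.val.presheaf.map g'.op (F.val.presheaf.map g.op s) = F.val.presheaf.map g'.op (F.val.presheaf.map g.op 0)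
  rw [map_zero, map_zero]
  refine ((congrArg (F.val.presheaf.map g'.op) ht).symm.trans (NatTrans.naturality_apply ψ g'.op t).symm).trans ?_
  exact (congrArg (ψ.app (op W')) (hT0 g' hg')).trans (map_zero (ψ.app (op W')).hom)

/-- A complex of presheaves of modules which is locally exact becomes exact. -/
theorem exact_shf_of_local (S : ShortComplex (PresheafOfModules.{w} R.obj))
    (h : ∀ (V : C) (x : S.X₂.obj (op V)), S.g.app (op V) x = 0 →
      ∃ T ∈ J V, ∀ ⦃W : C⦄ (g : W ⟶ V), T.arrows g → ∃ y, S.f.app (op W) y = S.X₂.presheaf.map g.op x) :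
    (S.map (shfR R)).Exact := by
  rw [ShortComplex.exact_iff_isZero_homology]
  refine IsZero.of_iso ?_ (S.mapHomologyIso (shfR R))
  refine isZero_shf_of_local _ fun V s => ?_
  have he : Epi ((PresheafOfModules.evaluation R.obj (op V)).map S.homologyπ) := Functor.map_epi _ _
  obtain ⟨z, hz⟩ := (ModuleCat.epi_iff_surjective _).1 he s
  have hz0 : S.g.app (op V) (S.iCycles.app (op V) z) = 0 :=
    congrArg (fun φ : S.cycles ⟶ S.X₃ => φ.app (op V) z) S.iCycles_g
  obtain ⟨T, hT, hy⟩ := h V _ hz0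
  refine ⟨T, hT, fun W g hg => ?_⟩
  obtain ⟨y, hy'⟩ := hy g hg
  have hm : Mono ((PresheafOfModules.evaluation R.obj (op W)).map S.iCycles) := Functor.map_mono _ _
  have e : S.toCycles.app (op W) y = S.cycles.presheaf.map g.op z := by
    refine (ModuleCat.mono_iff_injective _).1 hm ?_
    refine ((congrArg (fun φ : S.X₁ ⟶ S.X₂ => φ.app (op W) y) S.toCycles_i).trans hy').trans ?_
    exact (PresheafOfModules.naturality_apply S.iCycles g.op z).symm
  rw [← hz]
  refine (PresheafOfModules.naturality_apply S.homologyπ g.op z).symm.trans ?_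
  refine (congrArg (S.homologyπ.app (op W)) e).symm.trans ?_
  exact congrArg (fun φ : S.X₁ ⟶ S.homology => φ.app (op W) y) S.toCycles_comp_homologyπ

theorem mono_shf {P Q : PresheafOfModules.{w} R.obj} (f : P ⟶ Q) [Mono f] : Mono ((shfR R).map f) := by
  haveI : PreservesFiniteLimits (shfR R) := inferInstance
  exact (shfR R).map_mono f

/-- A locally surjective map of presheaves of modules becomes an epimorphism. -/
theorem epi_shf_of_local {P Q : PresheafOfModules.{w} R.obj} (f : P ⟶ Q)
    (h : ∀ (V : C) (x : Q.obj (op V)), ∃ T ∈ J V, ∀ ⦃W : C⦄ (g : W ⟶ V), T.arrows g →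
      ∃ y, f.app (op W) y = Q.presheaf.map g.op x) : Epi ((shfR R).map f) := by
  have he := exact_shf_of_local (ShortComplex.mk f (0 : Q ⟶ Q) comp_zero) fun V x _ => h V x
  refine he.epi_f ?_
  show (shfR R).map (0 : Q ⟶ Q) = 0
  exact (shfR R).map_zero Q Q

/-- The sheafified extension by zero along a presheaf of sets. -/
def jH (H : Cᵒᵖ ⥤ Type w) : SheafOfModules.{w} R ⥤ SheafOfModules.{w} R :=
  SheafOfModules.forget R ⋙ PresheafOfModules.pushforward₀ (elπ H) R.obj ⋙ gFun H R.obj ⋙ shfR R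

/-- Functoriality in the presheaf of sets. -/
def jMap {H H' : Cᵒᵖ ⥤ Type w} (f : H ⟶ H') : jH (R := R) H ⟶ jH H' where
  app M := (shfR R).map (hPre M.val f)
  naturality M N φ :=
    ((shfR R).map_comp _ _).symm.trans ((congrArg (shfR R).map (hPre_natural M.val f φ.val)).trans ((shfR R).map_comp _ _))

/-- Mayer-Vietoris data for presheaves of sets. -/
structure MVData (J : GrothendieckTopology C) (H₀ H₁ H₂ H₃ : Cᵒᵖ ⥤ Type w) where
  p : H₀ ⟶ H₁
  q : H₀ ⟶ H₂
  a : H₁ ⟶ H₃
  b : H₂ ⟶ H₃
  comm : ∀ (V : C) (x : H₀.obj (op V)), a.app (op V) (p.app (op V) x) = b.app (op V) (q.app (op V) x)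
  inj_q : ∀ V : C, Function.Injective (q.app (op V))
  inj_a : ∀ V : C, Function.Injective (a.app (op V))
  lift : ∀ (V : C) (y : H₁.obj (op V)) (z : H₂.obj (op V)), a.app (op V) y = b.app (op V) z →
    ∃ x, p.app (op V) x = y ∧ q.app (op V) x = z
  surj : ∀ (V : C) (t : H₃.obj (op V)), ∃ T ∈ J V, ∀ ⦃W : C⦄ (g : W ⟶ V), T.arrows g →
    (∃ y, a.app (op W) y = H₃.map g.op t) ∨ ∃ z, b.app (op W) z = H₃.map g.op t
  diag : ∀ (V : C) (z z' : H₂.obj (op V)), b.app (op V) z = b.app (op V) z' →
    ∃ T ∈ J V, ∀ ⦃W : C⦄ (g : W ⟶ V), T.arrows g →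
      H₂.map g.op z = H₂.map g.op z' ∨ ∃ y, a.app (op W) y = H₃.map g.op (b.app (op V) z)

namespace MVData

variable {H₀ H₁ H₂ H₃ : Cᵒᵖ ⥤ Type w} (D : MVData J H₀ H₁ H₂ H₃) (M : PresheafOfModules.{w} R.obj)

theorem hTot_q_injective (V : C) : Function.Injective (hTot M D.q V) := by
  refine (injective_iff_map_eq_zero _).2 fun m hm => DFinsupp.ext fun x => ?_
  have key : (show M.obj (op V) from hTot M D.q V m (D.q.app (op V) x)) = (show M.obj (op V) from m x) := by
    clear hm
    induction m using totM_induction with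
    | h0 => rw [map_zero]; rfl
    | hadd a b ha hb => rw [map_add]; exact congrArg₂ (· + ·) ha hb
    | hι z a =>
      classical
      rw [hTot_ιM, ιM_apply, ιM_apply]
      exact if_congr (D.inj_q V).eq_iff rfl rfl
  rw [hm] at key
  exact key.symm

theorem hTot_a_injective (V : C) : Function.Injective (hTot M D.a V) := by
  refine (injective_iff_map_eq_zero _).2 fun m hm => DFinsupp.ext fun x => ?_
  have key : (show M.obj (op V) from hTot M D.a V m (D.a.app (op V) x)) = (show M.obj (op V) from m x) := by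
    clear hm
    induction m using totM_induction with
    | h0 => rw [map_zero]; rfl
    | hadd a b ha hb => rw [map_add]; exact congrArg₂ (· + ·) ha hb
    | hι z a =>
      classical
      rw [hTot_ιM, ιM_apply, ιM_apply]
      exact if_congr (D.inj_a V).eq_iff rfl rfl
  rw [hm] at key
  exact key.symm

theorem hTot_p_q (V : C) (z : Tot H₀ (preH H₀ M) V) :
    hTot M D.a V (hTot M D.p V z) = hTot M D.b V (hTot M D.q V z) := by
  induction z using totM_induction with
  | h0 => simp only [map_zero]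
  | hadd a b ha hb => simp only [map_add, ha, hb]
  | hι x a => rw [hTot_ιM, hTot_ιM, hTot_ιM, hTot_ιM, D.comm]

theorem resTot_hTot {H H' : Cᵒᵖ ⥤ Type w} (f : H ⟶ H') {V W : C} (g : W ⟶ V) (m : Tot H (preH H M) V) :
    resTot H' (preH H' M) g (hTot M f V m) = hTot M f W (resTot H (preH H M) g m) :=
  (PresheafOfModules.naturality_apply (hPre M f) g.op m).symm

/-- Local exactness in the middle. -/
theorem local_exact : ∀ (n : ℕ) (V : C) (x : Tot H₁ (preH H₁ M) V) (z : Fin n → H₂.obj (op V))
    (c : Fin n → M.obj (op V)), hTot M D.a V x + hTot M D.b V (∑ i, ιM H₂ M V (z i) (c i)) = 0 →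
    ∃ T ∈ J V, ∀ ⦃W : C⦄ (g : W ⟶ V), T.arrows g → ∃ t : Tot H₀ (preH H₀ M) W,
      hTot M D.p W t = resTot H₁ (preH H₁ M) g x ∧
        -(hTot M D.q W t) = resTot H₂ (preH H₂ M) g (∑ i, ιM H₂ M V (z i) (c i)) := by
  intro n
  induction n using Nat.strong_induction_on with
  | _ n ih =>
  intro V x z c h
  classical
  by_cases hr : ∃ i y, D.a.app (op V) y = D.b.app (op V) (z i)
  · obtain ⟨i, y, hy⟩ := hr
    obtain ⟨m, rfl⟩ : ∃ m, n = m + 1 := ⟨n - 1, by have := i.2; omega⟩
    obtain ⟨x₀, hp, hq⟩ := D.lift V y (z i) hy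
    let t₀ := ιM H₀ M V x₀ (c i)
    have hsum : ∑ j, ιM H₂ M V (z j) (c j) =
        hTot M D.q V t₀ + ∑ j, ιM H₂ M V (z (i.succAbove j)) (c (i.succAbove j)) := by
      rw [Fin.sum_univ_succAbove _ i, hTot_ιM, hq]
    obtain ⟨T, hT, ht⟩ := ih m (Nat.lt_succ_self m) V (x + hTot M D.p V t₀)
      (fun j => z (i.succAbove j)) (fun j => c (i.succAbove j)) (by
        rw [← h, hsum, map_add, map_add, hTot_p_q, add_assoc])
    refine ⟨T, hT, fun W g hg => ?_⟩
    obtain ⟨t, ht1, ht2⟩ := ht g hg
    refine ⟨t - resTot H₀ (preH H₀ M) g t₀, ?_, ?_⟩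
    · rw [map_sub, ht1, map_add, ← resTot_hTot, add_sub_cancel_right]
    · rw [map_sub, neg_sub, hsum, map_add, ← ht2, resTot_hTot, sub_eq_add_neg]
  · by_cases hd : ∃ i j, i ≠ j ∧ D.b.app (op V) (z i) = D.b.app (op V) (z j)
    · obtain ⟨i, j, hij, he⟩ := hd
      obtain ⟨T, hT, hTd⟩ := D.diag V (z i) (z j) he
      have key : ∀ ⦃W : C⦄ (g : W ⟶ V), T.arrows g → ∃ U ∈ J W, ∀ ⦃W' : C⦄ (k : W' ⟶ W), U.arrows k →
          ∃ t : Tot H₀ (preH H₀ M) W', hTot M D.p W' t = resTot H₁ (preH H₁ M) (k ≫ g) x ∧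
            -(hTot M D.q W' t) = resTot H₂ (preH H₂ M) (k ≫ g) (∑ i, ιM H₂ M V (z i) (c i)) := by
        intro W g hg
        obtain ⟨m, rfl⟩ : ∃ m, n = m + 1 := ⟨n - 1, by have := i.2; omega⟩
        let x' := resTot H₁ (preH H₁ M) g x
        let z' : Fin (m + 1) → H₂.obj (op W) := fun l => H₂.map g.op (z l)
        let c' : Fin (m + 1) → M.obj (op W) := fun l => M.map g.op (c l)
        have hs : resTot H₂ (preH H₂ M) g (∑ l, ιM H₂ M V (z l) (c l)) = ∑ l, ιM H₂ M W (z' l) (c' l) := by
          rw [map_sum]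
          exact Finset.sum_congr rfl fun l _ => resTot_ιM H₂ M g _ _
        have h' : hTot M D.a W x' + hTot M D.b W (∑ l, ιM H₂ M W (z' l) (c' l)) = 0 := by
          rw [← hs, ← resTot_hTot, ← resTot_hTot, ← map_add, h, map_zero]
        suffices hmain : ∃ U ∈ J W, ∀ ⦃W' : C⦄ (k : W' ⟶ W), U.arrows k → ∃ t : Tot H₀ (preH H₀ M) W',
            hTot M D.p W' t = resTot H₁ (preH H₁ M) k x' ∧
              -(hTot M D.q W' t) = resTot H₂ (preH H₂ M) k (∑ l, ιM H₂ M W (z' l) (c' l)) by
          obtain ⟨U, hU, hU'⟩ := hmain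
          refine ⟨U, hU, fun W' k hk => ?_⟩
          obtain ⟨t, ht1, ht2⟩ := hU' k hk
          refine ⟨t, ht1.trans ?_, ht2.trans ?_⟩
          · exact (DFunLike.congr_fun (resTot_comp H₁ (preH H₁ M) g k) x).symm
          · rw [← hs]
            exact (DFunLike.congr_fun (resTot_comp H₂ (preH H₂ M) g k) _).symm
        rcases hTd g hg with hz | ⟨y, hy⟩
        · -- two terms merge
          obtain ⟨j', rfl⟩ := Fin.exists_succAbove_eq hij.symm
          let c'' : Fin m → M.obj (op W) := Function.update (fun l => c' (i.succAbove l)) j' (c' i + c' (i.succAbove j'))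
          have hm : ∑ l, ιM H₂ M W (z' l) (c' l) = ∑ l, ιM H₂ M W (z' (i.succAbove l)) (c'' l) := by
            rw [Fin.sum_univ_succAbove _ i, ← Finset.add_sum_erase _ _ (Finset.mem_univ j'),
              ← Finset.add_sum_erase _ _ (Finset.mem_univ j'), ← add_assoc]
            refine congrArg₂ (· + ·) ?_ (Finset.sum_congr rfl fun l hl => ?_)
            · have e1 : c'' j' = c' i + c' (i.succAbove j') := Function.update_self _ _ _
              rw [e1, show z' i = z' (i.succAbove j') from hz, map_add]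
            · rw [show c'' l = c' (i.succAbove l) from Function.update_of_ne (Finset.mem_erase.1 hl).1 _ _]
          rw [hm] at h' ⊢
          exact ih m (Nat.lt_succ_self m) W x' _ c'' h'
        · obtain ⟨x₀, hp, hq⟩ := D.lift W y (z' i) (hy.trans (NatTrans.naturality_apply D.b g.op (z i)).symm)
          let t₀ := ιM H₀ M W x₀ (c' i)
          have hsum : ∑ l, ιM H₂ M W (z' l) (c' l) =
              hTot M D.q W t₀ + ∑ l, ιM H₂ M W (z' (i.succAbove l)) (c' (i.succAbove l)) := by
            rw [Fin.sum_univ_succAbove _ i, hTot_ιM, hq]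
          obtain ⟨U, hU, hU'⟩ := ih m (Nat.lt_succ_self m) W (x' + hTot M D.p W t₀)
            (fun l => z' (i.succAbove l)) (fun l => c' (i.succAbove l)) (by
              rw [← h', hsum, map_add, map_add, hTot_p_q, add_assoc])
          refine ⟨U, hU, fun W' k hk => ?_⟩
          obtain ⟨t, ht1, ht2⟩ := hU' k hk
          refine ⟨t - resTot H₀ (preH H₀ M) k t₀, ?_, ?_⟩
          · rw [map_sub, ht1, map_add, ← resTot_hTot, add_sub_cancel_right]
          · rw [map_sub, neg_sub, hsum, map_add, ← ht2, resTot_hTot, sub_eq_add_neg]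
      choose U hU hU' using key
      refine ⟨Sieve.bind T.arrows fun W g hg => U g hg, J.bind_covering hT fun W g hg => hU g hg, fun W g hg => ?_⟩
      obtain ⟨Y, k, g', hg', hk, rfl⟩ := hg
      exact hU' g' hg' k hk
    · push_neg at hr hd
      have hx0 : ∀ (x' : Tot H₁ (preH H₁ M) V) (i : Fin n),
          (show M.obj (op V) from hTot M D.a V x' (D.b.app (op V) (z i))) = 0 := fun x' i => by
        induction x' using totM_induction with
        | h0 => rw [map_zero]; rfl
        | hadd u v hu hv => rw [map_add]; exact (congrArg₂ (· + ·) hu hv).trans (add_zero 0)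
        | hι y e => rw [hTot_ιM, ιM_apply, if_neg (hr i y)]
      have hc : ∀ i, c i = 0 := fun i => by
        have := congrArg (fun t : Tot H₃ (preH H₃ M) V => (show M.obj (op V) from t (D.b.app (op V) (z i)))) h
        refine Eq.trans ?_ this
        refine Eq.trans ?_ (congrArg₂ (· + ·) (hx0 x i).symm rfl)
        rw [zero_add]
        have e : hTot M D.b V (∑ l, ιM H₂ M V (z l) (c l)) = ∑ l, ιM H₃ M V (D.b.app (op V) (z l)) (c l) := by
          rw [map_sum]; exact Finset.sum_congr rfl fun l _ => hTot_ιM M D.b V _ _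
        rw [e]
        refine Eq.trans ?_ (tot_sum_apply H₃ M _ _ _).symm
        rw [Finset.sum_eq_single_of_mem i (Finset.mem_univ i) fun l _ hl =>
          (ιM_apply H₃ M V _ _ _).trans (if_neg (hd l i hl))]
        exact ((ιM_apply H₃ M V _ _ _).trans (if_pos rfl)).symm
      have hy0 : ∑ i, ιM H₂ M V (z i) (c i) = 0 := Finset.sum_eq_zero fun i _ => by rw [hc i, map_zero]
      rw [hy0, map_zero, add_zero] at h
      have hxz : x = 0 := D.hTot_a_injective M V (h.trans (map_zero _).symm)
      exact ⟨⊤, J.top_mem V, fun W g _ => ⟨0, by rw [map_zero, hxz, map_zero], by rw [map_zero, neg_zero, hy0, map_zero]⟩⟩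

/-- The first map. -/
def f (M : SheafOfModules.{w} R) : (jH H₀).obj M ⟶ (jH H₁).obj M ⊞ (jH H₂).obj M :=
  biprod.lift ((jMap D.p).app M) (-(jMap D.q).app M)

/-- The second map. -/
def g (M : SheafOfModules.{w} R) : (jH H₁).obj M ⊞ (jH H₂).obj M ⟶ (jH H₃).obj M :=
  biprod.desc ((jMap D.a).app M) ((jMap D.b).app M)

/-- The presheaf Mayer-Vietoris complex. -/
def preSeq : ShortComplex (PresheafOfModules.{w} R.obj) :=
  ShortComplex.mk (biprod.lift (hPre M D.p) (-hPre M D.q)) (biprod.desc (hPre M D.a) (hPre M D.b)) (by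
    rw [biprod.lift_desc, Preadditive.neg_comp, ← sub_eq_add_neg, sub_eq_zero]
    exact PresheafOfModules.hom_ext fun V => ModuleCat.hom_ext (LinearMap.ext fun m => D.hTot_p_q M V.unop m))

theorem shortExact_preSeq : ((D.preSeq M).map (shfR R)).ShortExact := by
  haveI : Mono (hPre M D.q) := PresheafOfModules.mono_of_injective fun {V} => D.hTot_q_injective M V.unop
  haveI : Mono (D.preSeq M).f := by
    haveI : Mono ((D.preSeq M).f ≫ biprod.snd) := by
      rw [show (D.preSeq M).f ≫ biprod.snd = -hPre M D.q from biprod.lift_snd _ _]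
      infer_instance
    exact mono_of_mono _ biprod.snd
  haveI := mono_shf (R := R) (D.preSeq M).f
  haveI : Epi ((shfR R).map (D.preSeq M).g) := by
    refine epi_shf_of_local _ fun V m => ?_
    let m' : Tot H₃ (preH H₃ M) V := m
    suffices ∃ T ∈ J V, ∀ ⦃W : C⦄ (g : W ⟶ V), T.arrows g → ∃ (x : Tot H₁ (preH H₁ M) W) (y : Tot H₂ (preH H₂ M) W),
        hTot M D.a W x + hTot M D.b W y = resTot H₃ (preH H₃ M) g m' by
      obtain ⟨T, hT, hT'⟩ := this
      refine ⟨T, hT, fun W g hg => ?_⟩
      obtain ⟨x, y, hxy⟩ := hT' g hg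
      refine ⟨(biprod.inl : gObj H₁ (preH H₁ M) ⟶ _).app (op W) x + (biprod.inr : gObj H₂ (preH H₂ M) ⟶ _).app (op W) y,
        Eq.trans ?_ hxy⟩
      refine (map_add ((biprod.desc (hPre M D.a) (hPre M D.b)).app (op W)).hom _ _).trans (congrArg₂ (· + ·) ?_ ?_)
      · exact congrArg (fun φ : gObj H₁ (preH H₁ M) ⟶ gObj H₃ (preH H₃ M) => φ.app (op W) x) (biprod.inl_desc _ _)
      · exact congrArg (fun φ : gObj H₂ (preH H₂ M) ⟶ gObj H₃ (preH H₃ M) => φ.app (op W) y) (biprod.inr_desc _ _)
    induction m' using totM_induction with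
    | h0 => exact ⟨⊤, J.top_mem V, fun W g _ => ⟨0, 0, by simp⟩⟩
    | hadd a b ha hb =>
      obtain ⟨T, hT, hT'⟩ := ha
      obtain ⟨T₂, hT₂, hT₂'⟩ := hb
      refine ⟨T ⊓ T₂, J.intersection_covering hT hT₂, fun W g hg => ?_⟩
      obtain ⟨x, y, hxy⟩ := hT' g hg.1
      obtain ⟨x', y', hxy'⟩ := hT₂' g hg.2
      exact ⟨x + x', y + y', by rw [map_add, map_add, map_add, ← hxy, ← hxy', add_add_add_comm]⟩
    | hι t e =>
      obtain ⟨T, hT, hT'⟩ := D.surj V t
      refine ⟨T, hT, fun W g hg => ?_⟩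
      rcases hT' g hg with ⟨y, hy⟩ | ⟨z, hz⟩
      · exact ⟨ιM H₁ M W y (M.map g.op e), 0, by rw [map_zero, add_zero, hTot_ιM, hy, resTot_ιM]⟩
      · exact ⟨0, ιM H₂ M W z (M.map g.op e), by rw [map_zero, zero_add, hTot_ιM, hz, resTot_ιM]⟩
  refine { exact := exact_shf_of_local _ fun V m hm => ?_, mono_f := ‹_›, epi_g := ‹_› }
  let x : Tot H₁ (preH H₁ M) V := (biprod.fst : gObj H₁ (preH H₁ M) ⊞ gObj H₂ (preH H₂ M) ⟶ _).app (op V) m
  let y : Tot H₂ (preH H₂ M) V := (biprod.snd : gObj H₁ (preH H₁ M) ⊞ gObj H₂ (preH H₂ M) ⟶ _).app (op V) m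
  have hxy : hTot M D.a V x + hTot M D.b V y = 0 := by
    refine Eq.trans ?_ hm
    exact (congrArg (fun φ : gObj H₁ (preH H₁ M) ⊞ gObj H₂ (preH H₂ M) ⟶ gObj H₃ (preH H₃ M) => φ.app (op V) m)
      (biprod.desc_eq (f := hPre M D.a) (g := hPre M D.b))).symm
  obtain ⟨n, z, c, hy⟩ := exists_fin_repr H₂ M y
  rw [hy] at hxy
  obtain ⟨T, hT, hT'⟩ := D.local_exact M n V x z c hxy
  refine ⟨T, hT, fun W g hg => ?_⟩
  obtain ⟨t, ht1, ht2⟩ := hT' g hg
  refine ⟨t, ?_⟩
  let P := gObj H₁ (preH H₁ M) ⊞ gObj H₂ (preH H₂ M)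
  have hcomp : ∀ (u u' : P.obj (op W)),
      (biprod.fst : P ⟶ _).app (op W) u = (biprod.fst : P ⟶ _).app (op W) u' →
      (biprod.snd : P ⟶ _).app (op W) u = (biprod.snd : P ⟶ _).app (op W) u' → u = u' := fun u u' h1 h2 => by
    have e : ∀ v, v = (biprod.inl : _ ⟶ P).app (op W) ((biprod.fst : P ⟶ _).app (op W) v) +
        (biprod.inr : _ ⟶ P).app (op W) ((biprod.snd : P ⟶ _).app (op W) v) := fun v =>
      (congrArg (fun φ : P ⟶ P => φ.app (op W) v) biprod.total).symm
    rw [e u, e u', h1, h2]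
  refine hcomp _ _ ?_ ?_
  · refine (congrArg (fun φ : gObj H₀ (preH H₀ M) ⟶ gObj H₁ (preH H₁ M) => φ.app (op W) t) (biprod.lift_fst _ _)).trans ?_
    exact ht1.trans (PresheafOfModules.naturality_apply (biprod.fst : P ⟶ _) g.op m).symm
  · refine (congrArg (fun φ : gObj H₀ (preH H₀ M) ⟶ gObj H₂ (preH H₂ M) => φ.app (op W) t) (biprod.lift_snd _ _)).trans ?_
    rw [← hy] at ht2
    exact ht2.trans (PresheafOfModules.naturality_apply (biprod.snd : P ⟶ _) g.op m).symm

theorem f_g (M : SheafOfModules.{w} R) : D.f M ≫ D.g M = 0 := by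
  rw [f, g, biprod.lift_desc, Preadditive.neg_comp, ← sub_eq_add_neg, sub_eq_zero]
  show (shfR R).map _ ≫ (shfR R).map _ = (shfR R).map _ ≫ (shfR R).map _
  rw [← Functor.map_comp, ← Functor.map_comp]
  exact congrArg _ (PresheafOfModules.hom_ext fun V => ModuleCat.hom_ext (LinearMap.ext fun m =>
    D.hTot_p_q M.val V.unop m))

/-- The Mayer-Vietoris sequence. -/
theorem shortExact (M : SheafOfModules.{w} R) : (ShortComplex.mk (D.f M) (D.g M) (D.f_g M)).ShortExact := by
  haveI : PreservesBinaryBiproducts (shfR R) := preservesBinaryBiproducts_of_preservesBinaryCoproducts _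
  haveI : (shfR R).Additive := Functor.additive_of_preservesBinaryBiproducts _
  refine ShortComplex.shortExact_of_iso (ShortComplex.isoMk (S₁ := (D.preSeq M.val).map (shfR R))
    (S₂ := ShortComplex.mk (D.f M) (D.g M) (D.f_g M)) (Iso.refl _)
    ((shfR R).mapBiprod (gObj H₁ (preH H₁ M.val)) (gObj H₂ (preH H₂ M.val))) (Iso.refl _) ?_ ?_) (D.shortExact_preSeq M.val)
  · refine (Category.id_comp _).trans (Eq.symm ?_)
    exact (biprod.map_lift_mapBiprod (shfR R) _ _ (hPre M.val D.p) (-hPre M.val D.q)).trans (congrArg (biprod.lift _) (Functor.map_neg _))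
  · refine Eq.trans ?_ (Category.comp_id _).symm
    show ((shfR R).mapBiprod _ _).hom ≫ biprod.desc _ _ = (shfR R).map (biprod.desc _ _)
    rw [← biprod.mapBiprod_hom_desc]
    rfl

end MVData

end Sh

end Groth.Agent.AlgSpShriek
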