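import Groth.Agent.AlgSpShriek.Ops
import Groth.Agent.AlgSpShriek.Bounded
import Groth.Agent.AlgSpRlim.PerfLE

/-! Extension by zero from an object of the small étale site. -/

set_option autoImplicit false
set_option linter.style.haveILetI false
set_option linter.unusedSectionVars false
set_option backward.isDefEq.respectTransparency false
set_option backward.isDefEq.respectTransparency.types false
set_option maxHeartbeats 1000000
set_option synthInstance.maxHeartbeats 400000

universe u

open CategoryTheory Limits AlgebraicGeometry Opposite DirectSum DerivedCategory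
open Groth.Agent.AlgSpQC Groth.Agent.AlgSpFT Groth.Agent.RlimCrit Groth.Agent.AlgSpRlim

attribute [local instance] HasDerivedCategory.standard

noncomputable section

namespace Groth.Agent.AlgSpShriek

variable {S : Scheme.{u}} {X : AlgSp.Sp S}

/-- The presheaf of sets of an object. -/
abbrev yW (W : AlgSp.EtOver X) : (AlgSp.EtOver X)ᵒᵖ ⥤ Type (u + 1) := uliftYoneda.{u + 1}.obj W

/-- A morphism as a section. -/
abbrev secW {E W : AlgSp.EtOver X} (x : E ⟶ W) : (yW W).obj (op E) := ULift.up x

variable {W V : AlgSp.EtOver X} (k : W ⟶ V)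

/-- Objects over `W` are objects over `V`. -/
def σk : El (yW W) ⥤ Over V where
  obj e := Over.mk ((show e.unop.1.unop ⟶ W from e.unop.2.down) ≫ k)
  map {e e'} f := Over.homMk f.unop.val.unop (by
    have h := congrArg ULift.down f.unop.property
    refine (Category.assoc _ _ _).symm.trans (congrArg (· ≫ k) ?_)
    exact h)
  map_id e := Over.OverMorphism.ext rfl
  map_comp f g := Over.OverMorphism.ext rfl

/-- Pullback of presheaves of modules to the objects over `W`. -/
abbrev pk : PresheafOfModules.{u + 1} (AlgSp.OEtOn V).obj ⥤ PresheafOfModules.{u + 1} (elR (yW W) (AlgSp.OEtRing X).obj) :=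
  PresheafOfModules.pushforward₀ (σk k) (AlgSp.OEtOn V).obj

/-- Extension by zero from the objects over `W`. -/
def jV : AlgSp.ModEtOn V ⥤ AlgSp.ModEt X :=
  SheafOfModules.forget (AlgSp.OEtOn V) ⋙ pk k ⋙ gFun (yW W) (AlgSp.OEtRing X).obj ⋙ shfR (AlgSp.OEtRing X)

instance additive_shfR : (shfR (AlgSp.OEtRing X)).Additive :=
  haveI : PreservesBinaryBiproducts (shfR (AlgSp.OEtRing X)) := preservesBinaryBiproducts_of_preservesBinaryCoproducts _
  Functor.additive_of_preservesBinaryBiproducts _

instance additive_jV : (jV k).Additive := by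
  haveI : (pk k).Additive := { map_add := by intros; rfl }
  unfold jV
  infer_instance

theorem shortExact_jV {T : ShortComplex (AlgSp.ModEtOn V)} (hT : T.ShortExact) : (T.map (jV k)).ShortExact := by
  haveI := hT.mono_f
  haveI := hT.epi_g
  let F := SheafOfModules.forget (AlgSp.OEtOn V)
  let T' := T.map F
  have hT' : T'.Exact := hT.exact.map_of_mono_of_preservesKernel F inferInstance inferInstance
  haveI : Mono T'.f := F.map_mono T.f
  haveI : (pk k).Additive := { map_add := by intros; rfl }
  have hp : (T'.map (pk k)).Exact := (exact_iff_eval _).2 fun x => (exact_iff_eval T').1 hT' (op ((σk k).obj x.unop))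
  haveI : Mono ((pk k).map T'.f) := PresheafOfModules.mono_of_injective fun {x} =>
    (ModuleCat.mono_iff_injective _).1 ((PresheafOfModules.evaluation (AlgSp.OEtOn V).obj (op ((σk k).obj x.unop))).map_mono T'.f)
  let T'' := (T'.map (pk k)).map (gFun (yW W) (AlgSp.OEtRing X).obj)
  have hg : T''.Exact := exact_gFun _ hp
  haveI : Mono (T'.map (pk k)).f := ‹Mono ((pk k).map T'.f)›
  haveI : Mono T''.f := (gFun (yW W) (AlgSp.OEtRing X).obj).map_mono _
  haveI := mono_shf (R := AlgSp.OEtRing X) T''.f
  haveI : Epi ((shfR (AlgSp.OEtRing X)).map T''.g) := by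
    refine epi_shf_of_local _ fun E m => ?_
    let G₂ := (pk k).obj T'.X₂
    let G₃ := (pk k).obj T'.X₃
    let m' : Tot (yW W) G₃ E := m
    suffices ∃ U ∈ AlgSp.etTop X E, ∀ ⦃E' : AlgSp.EtOver X⦄ (g : E' ⟶ E), U.arrows g →
        ∃ y : Tot (yW W) G₂ E', mapTot ((pk k).map T'.g) E' y = resTot (yW W) G₃ g m' from this
    induction m' using tot_induction with
    | h0 => exact ⟨⊤, GrothendieckTopology.top_mem _ _, fun E' g _ => ⟨0, by rw [map_zero, map_zero]⟩⟩
    | hadd a b ha hb =>
      obtain ⟨U, hU, hU'⟩ := ha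
      obtain ⟨U₂, hU₂, hU₂'⟩ := hb
      refine ⟨U ⊓ U₂, GrothendieckTopology.intersection_covering _ hU hU₂, fun E' g hg => ?_⟩
      obtain ⟨y, hy⟩ := hU' g hg.1
      obtain ⟨y', hy'⟩ := hU₂' g hg.2
      exact ⟨y + y', by rw [map_add, map_add, hy, hy']⟩
    | hι x a =>
      obtain ⟨U, hU, hlift⟩ := exists_local_lift (R := AlgSp.OEtOn V) T.g (X := (σk k).obj (mkEl (yW W) x)) a
      refine ⟨Sieve.overEquiv _ U, (GrothendieckTopology.mem_over_iff _ _).1 hU, fun E' g hg => ?_⟩
      let v := (σk k).map (homEl (yW W) g (rfl : (yW W).map g.op x = (yW W).map g.op x))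
      have hv : U.arrows v := by
        rw [← (Sieve.overEquiv _).symm_apply_apply U]
        exact (Sieve.overEquiv_symm_iff _ _).2 hg
      obtain ⟨p, hp⟩ := hlift v hv
      refine ⟨ι (yW W) G₂ E' ((yW W).map g.op x) p, ?_⟩
      rw [mapTot_ι, resTot_ι (yW W) G₃ g x rfl]
      exact congrArg _ hp
  exact { exact := hg.map_of_mono_of_preservesKernel (shfR (AlgSp.OEtRing X)) inferInstance inferInstance,
          mono_f := ‹_›, epi_g := ‹_› }

instance preservesFiniteLimits_jV : PreservesFiniteLimits (jV k) :=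
  have h : PreservesFiniteLimits (jV k) ∧ PreservesFiniteColimits (jV k) :=
    ((Functor.exact_tfae (jV k)).out 0 3).mp fun _ hS => shortExact_jV k hS
  h.1

instance preservesFiniteColimits_jV : PreservesFiniteColimits (jV k) :=
  have h : PreservesFiniteLimits (jV k) ∧ PreservesFiniteColimits (jV k) :=
    ((Functor.exact_tfae (jV k)).out 0 3).mp fun _ hS => shortExact_jV k hS
  h.2

/-- Pullbacks of restrictions. -/
def preRes (M : AlgSp.ModEt X) : (PresheafOfModules.pushforward₀ (σk k) (AlgSp.OEtOn V).obj).obj ((AlgSp.resModEt V).obj M).val ≅ preH (yW W) M.val :=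
  PresheafOfModules.isoMk (fun e => Iso.refl ((preH (yW W) M.val).obj e)) (fun e e' g => (Category.comp_id _).trans (Category.id_comp _).symm)
theorem preRes_nat {M N : AlgSp.ModEt X} (φ : M ⟶ N) :
  (PresheafOfModules.pushforward₀ (σk k) (AlgSp.OEtOn V).obj).map ((AlgSp.resModEt V).map φ).val ≫ (preRes k N).hom = (preRes k M).hom ≫ (PresheafOfModules.pushforward₀ (elπ (yW W)) (AlgSp.OEtRing X).obj).map φ.val :=
  PresheafOfModules.hom_ext fun e => ModuleCat.hom_ext (LinearMap.ext fun x => rfl)
/-- Extension by zero of restrictions. -/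
def jResIso : AlgSp.resModEt V ⋙ jV k ≅ jH (R := AlgSp.OEtRing X) (yW W) :=
  NatIso.ofComponents (fun M => (shfR (AlgSp.OEtRing X)).mapIso ((gFun (yW W) (AlgSp.OEtRing X).obj).mapIso (preRes k M))) fun {M N} φ => by
    let G := gFun (yW W) (AlgSp.OEtRing X).obj
    let F := shfR (AlgSp.OEtRing X)
    refine Eq.trans ((F.map_comp _ _).symm.trans (congrArg F.map (Eq.trans ((G.map_comp _ _).symm.trans ((congrArg G.map (preRes_nat k φ)).trans (G.map_comp _ _))) rfl))) (F.map_comp _ _)

/-- The unit on the objects over `W`. -/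
abbrev unitW : PresheafOfModules.{u + 1} (elR (yW W) (AlgSp.OEtRing X).obj) :=
  (pk k).obj (SheafOfModules.unit (AlgSp.OEtOn V)).val

/-- The sheafification adjunction. -/
abbrev shAdj := PresheafOfModules.sheafificationAdjunction (𝟙 (AlgSp.OEtRing X).obj)

theorem jV_unit : (jV k).obj (SheafOfModules.unit (AlgSp.OEtOn V)) = (shfR (AlgSp.OEtRing X)).obj (gObj (yW W) (unitW k)) :=
  rfl

/-- The generating section. -/
def gen₀ : fib (yW W) (unitW k) W (secW (𝟙 W)) := (1 : (AlgSp.OEtRing X).obj.obj (op W))

/-- The generating section of the extension by zero of the unit. -/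
def genSec : ((shfR (AlgSp.OEtRing X)).obj (gObj (yW W) (unitW k))).val.obj (op W) :=
  ((shAdj (X := X)).unit.app (gObj (yW W) (unitW k))).app (op W)
    (ι (yW W) (unitW k) W (secW (𝟙 W)) (gen₀ k))

variable (P : AlgSp.ModEt X) (s₀ : P.val.obj (op W))

/-- The map given by a section, on a summand. -/
def bTerm (E : AlgSp.EtOver X) (x : (yW W).obj (op E)) : fib (yW W) (unitW k) E x →+ P.val.obj (op E) :=
  (LinearMap.toSpanSingleton ((AlgSp.OEtRing X).obj.obj (op E)) (P.val.obj (op E))
      (P.val.map (ULift.down x).op s₀)).toAddMonoidHom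

open scoped Classical in
/-- The map given by a section, on sums. -/
def bTot (E : AlgSp.EtOver X) : Tot (yW W) (unitW k) E →+ P.val.obj (op E) :=
  DirectSum.toAddMonoid (bTerm k P s₀ E)

theorem bTot_ι (E : AlgSp.EtOver X) (x : (yW W).obj (op E)) (r : (AlgSp.OEtRing X).obj.obj (op E)) :
    bTot k P s₀ E (ι (yW W) (unitW k) E x r) = r • P.val.map (ULift.down x).op s₀ := by
  classical
  exact DirectSum.toAddMonoid_of (bTerm k P s₀ E) x r

theorem bTot_res {E E' : AlgSp.EtOver X} (g : E' ⟶ E) (m : Tot (yW W) (unitW k) E) :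
    bTot k P s₀ E' (resTot (yW W) (unitW k) g m) = P.val.map g.op (bTot k P s₀ E m) := by
  induction m using tot_induction with
  | h0 => rw [map_zero, map_zero, map_zero]; exact (map_zero _).symm
  | hadd a c ha hc =>
    rw [map_add, map_add, map_add, ha, hc]
    exact (map_add _ _ _).symm
  | hι x r =>
    rw [resTot_ι (yW W) (unitW k) g x rfl]
    refine (bTot_ι k P s₀ _ _ ((AlgSp.OEtRing X).obj.map g.op r)).trans (Eq.trans ?_
      ((congrArg (P.val.map g.op) (bTot_ι k P s₀ _ _ r)).trans (PresheafOfModules.map_smul P.val g.op r _)).symm)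
    exact congrArg (fun z : P.val.obj (op E') => (AlgSp.OEtRing X).obj.map g.op r • z)
      (PresheafOfModules.map_comp_apply P.val (ULift.down x).op g.op s₀)

theorem bTot_smul (E : AlgSp.EtOver X) (r : (AlgSp.OEtRing X).obj.obj (op E)) (m : Tot (yW W) (unitW k) E) :
    bTot k P s₀ E (r • m) = r • bTot k P s₀ E m := by
  induction m using tot_induction with
  | h0 => rw [smul_zero, map_zero, smul_zero]
  | hadd a c ha hc => rw [smul_add, map_add, map_add, ha, hc, smul_add]
  | hι x a => rw [← ι_smul, bTot_ι, bTot_ι, ← mul_smul]; rfl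

/-- The map given by a section, as presheaves of groups. -/
def bAb : totAb (yW W) (unitW k) ⟶ P.val.presheaf where
  app E := AddCommGrpCat.ofHom (bTot k P s₀ E.unop)
  naturality _ _ g := AddCommGrpCat.hom_ext (AddMonoidHom.ext fun m => bTot_res k P s₀ g.unop m)

/-- The map given by a section. -/
def bPre : gObj (yW W) (unitW k) ⟶ P.val :=
  PresheafOfModules.homMk (bAb k P s₀) fun E r m => bTot_smul k P s₀ E.unop r m

theorem comp_bPre {Q : AlgSp.ModEt X} (φ : P ⟶ Q) : bPre k P s₀ ≫ φ.val = bPre k Q (φ.val.app (op W) s₀) := by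
  refine PresheafOfModules.hom_ext fun E => ModuleCat.hom_ext (LinearMap.ext fun m => ?_)
  show φ.val.app E (bTot k P s₀ E.unop (show Tot (yW W) (unitW k) E.unop from m)) =
    bTot k Q (φ.val.app (op W) s₀) E.unop (show Tot (yW W) (unitW k) E.unop from m)
  generalize (show Tot (yW W) (unitW k) E.unop from m) = m'
  induction m' using tot_induction with
  | h0 => simp only [map_zero]
  | hadd a c ha hc => simp only [map_add, ha, hc]
  | hι x r =>
    rw [bTot_ι, bTot_ι]
    refine ((φ.val.app E).hom.map_smul r _).trans ?_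
    exact congrArg (r • ·) (PresheafOfModules.naturality_apply φ.val (ULift.down x).op s₀)

theorem bPre_genSec :
    bPre k ((shfR (AlgSp.OEtRing X)).obj (gObj (yW W) (unitW k))) (genSec k) =
      (shAdj (X := X)).unit.app (gObj (yW W) (unitW k)) := by
  refine PresheafOfModules.hom_ext fun E => ModuleCat.hom_ext (LinearMap.ext fun m => ?_)
  let η := (shAdj (X := X)).unit.app (gObj (yW W) (unitW k))
  show bTot k _ (genSec k) E.unop (show Tot (yW W) (unitW k) E.unop from m) = η.app E (show Tot (yW W) (unitW k) E.unop from m)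
  generalize (show Tot (yW W) (unitW k) E.unop from m) = m'
  induction m' using tot_induction with
  | h0 => exact (map_zero _).trans (map_zero (η.app E).hom).symm
  | hadd a c ha hc => exact (map_add _ a c).trans ((congrArg₂ (· + ·) ha hc).trans (map_add (η.app E).hom a c).symm)
  | hι x r =>
    obtain ⟨x⟩ := x
    rw [bTot_ι]
    refine (congrArg (r • ·) (PresheafOfModules.naturality_apply η x.op
      (ι (yW W) (unitW k) W (secW (𝟙 W)) (gen₀ k))).symm).trans ?_
    refine ((η.app E).hom.map_smul r _).symm.trans (congrArg _ ?_)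
    show (show (AlgSp.OEtRing X).obj.obj (op E.unop) from r) • resTot (yW W) (unitW k) x (ι (yW W) (unitW k) W (secW (𝟙 W)) (gen₀ k)) = _
    rw [resTot_ι (yW W) (unitW k) x (secW (𝟙 W)) (y := secW x) (congrArg ULift.up (Category.comp_id x))]
    refine (ι_smul (yW W) (unitW k) E.unop (secW x) r _).symm.trans (congrArg _ ?_)
    exact (congrArg ((show (AlgSp.OEtRing X).obj.obj (op E.unop) from r) * ·) (map_one ((AlgSp.OEtRing X).obj.map x.op).hom)).trans (mul_one _)

omit P s₀

/-- The free module on `W` covers the extension by zero of the unit. -/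
theorem exists_retract_unit :
    ∃ (φ : (genP X).obj (AsSmall.up.obj W) ⟶ (jV k).obj (SheafOfModules.unit (AlgSp.OEtOn V))) (ψ :
      (jV k).obj (SheafOfModules.unit (AlgSp.OEtOn V)) ⟶ (genP X).obj (AsSmall.up.obj W)), ψ ≫ φ = 𝟙 _ := by
  rw [jV_unit]
  let U := AsSmall.up.obj W
  let P := (genP X).obj U
  let J₀ := (shfR (AlgSp.OEtRing X)).obj (gObj (yW W) (unitW k))
  let φ : P ⟶ J₀ := (gsec U J₀).symm (genSec k)
  have hφ : φ.val.app (op W) (gsec U P (𝟙 _)) = genSec k :=
    (gsec_comp U (𝟙 P) φ).symm.trans ((congrArg _ (Category.id_comp φ)).trans (Equiv.apply_symm_apply _ _))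
  refine ⟨φ, ((shAdj (X := X)).homEquiv (gObj (yW W) (unitW k)) P).symm (bPre k P (gsec U P (𝟙 _))),
    ((shAdj (X := X)).homEquiv (gObj (yW W) (unitW k)) J₀).injective ?_⟩
  rw [Adjunction.homEquiv_naturality_right, Equiv.apply_symm_apply, Adjunction.homEquiv_id]
  exact (comp_bPre k P _ φ).trans ((congrArg (bPre k J₀) hφ).trans (bPre_genSec k))

end Groth.Agent.AlgSpShriek
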