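import Groth.Agent.AlgSpShriek.Main
import Groth.Agent.DCohLib.Ghost

/-! Consequences of the vanishing for perfect objects. -/

set_option autoImplicit false
set_option linter.style.haveILetI false
set_option linter.unusedSectionVars false
set_option backward.isDefEq.respectTransparency false
set_option backward.isDefEq.respectTransparency.types false
set_option maxHeartbeats 1000000
set_option synthInstance.maxHeartbeats 400000

universe u

open CategoryTheory Limits AlgebraicGeometry Opposite DerivedCategory Pretriangulated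
open Groth.Agent.AlgSpQC Groth.Agent.AlgSpFT Groth.Agent.RlimCrit Groth.Agent.AlgSpRlim

attribute [local instance] HasDerivedCategory.standard

noncomputable section

namespace Groth.Agent.AlgSpShriek

variable {S : Scheme.{u}} {X : AlgSp.Sp S}

local notation "tS" => (DerivedCategory.TStructure.t : CategoryTheory.Triangulated.TStructure (AlgSp.DModEt X))

theorem qcD_truncLT {L : AlgSp.DModEt X} (hL : DCoh.IsQCohDMod (AlgSp.OEtRing X) L) (a : ℤ) :
    DCoh.IsQCohDMod (AlgSp.OEtRing X) (((tS).truncLT a).obj L) := fun i => by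
  rcases lt_or_ge i a with h | h
  · haveI := DCohLib.isIso_homology_truncLTι L a i h
    exact (SheafOfModules.isQuasicoherent (AlgSp.OEtRing X)).prop_of_iso
      (asIso ((DerivedCategory.homologyFunctor (AlgSp.ModEt X) i).map (((tS).truncLTι a).app L))).symm (hL i)
  · haveI : (((tS).truncLT a).obj L).IsLE (a - 1) := (tS).isLE_truncLT_obj L a _ (by omega)
    exact (isQuasicoherent_iff _).2 (qc_of_isZero ((isQuasicoherent_iff _).1 (hL i))
      (DerivedCategory.isZero_of_isLE _ (a - 1) i (by omega)))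

variable {K : AlgSp.DModEt X} {B b₀ : ℤ}
  (hb₀ : ∀ Z : AlgSp.DModEt X, DCoh.IsQCohDMod (AlgSp.OEtRing X) Z → Z.IsLE b₀ → ∀ φ : K ⟶ Z, φ = 0)

include hb₀ in
theorem exists_window (hB : K.IsLE B) :
    ∃ a b : ℤ, a ≤ b ∧ ∀ L : AlgSp.DModEt X, DCoh.IsQCohDMod (AlgSp.OEtRing X) L →
      (∀ i : ℤ, a ≤ i → i ≤ b → IsZero (DCoh.HDMod (AlgSp.OEtRing X) L i)) → ∀ φ : K ⟶ L, φ = 0 := by
  let a := min (b₀ + 1) B
  refine ⟨a, B, min_le_right _ _, fun L hL hz φ => ?_⟩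
  have hab : a ≤ b₀ + 1 := min_le_left _ _
  haveI : (((tS).truncGE a).obj L).IsGE (B + 1) := (DerivedCategory.isGE_iff _ _).2 fun i hi => by
    rcases lt_or_ge i a with h | h
    · haveI : (((tS).truncGE a).obj L).IsGE a := inferInstanceAs ((tS).IsGE (((tS).truncGE a).obj L) a)
      exact DerivedCategory.isZero_of_isGE _ a i h
    · haveI := DCohLib.isIso_homology_truncGEπ L a i h
      exact (hz i h (by omega)).of_iso
        (asIso ((DerivedCategory.homologyFunctor (AlgSp.ModEt X) i).map (((tS).truncGEπ a).app L))).symm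
  have h0 : φ ≫ ((tS).truncGEπ a).app L = 0 :=
    haveI : (tS).IsLE K B := hB
    haveI : (tS).IsGE (((tS).truncGE a).obj L) (B + 1) := ‹DerivedCategory.IsGE _ _›
    (tS).zero _ B (B + 1) (by omega)
  obtain ⟨g, hg⟩ := Triangle.coyoneda_exact₂ _ ((tS).triangleLTGE_distinguished a L) φ h0
  have hg0 : g = 0 := hb₀ _ (qcD_truncLT hL a) ((DerivedCategory.isLE_iff _ _).2 fun i hi => by
    haveI : (((tS).truncLT a).obj L).IsLE (a - 1) := (tS).isLE_truncLT_obj L a _ (by omega)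
    exact DerivedCategory.isZero_of_isLE _ (a - 1) i (by omega)) g
  rw [hg, hg0]
  exact zero_comp

include hb₀ in
theorem exists_bound_hom_shift (hB : K.IsLE B) (L : AlgSp.DModEt X) (hL : DCoh.IsQCohDMod (AlgSp.OEtRing X) L)
    (a' b' : ℤ) (ha : L.IsGE a') (hb : L.IsLE b') :
    ∃ N : ℕ, ∀ n : ℤ, (N : ℤ) ≤ |n| → ∀ φ : K ⟶ L⟦n⟧, φ = 0 := by
  refine ⟨(|a' - B| + |b' - b₀| + 1).toNat, fun n hn φ => ?_⟩
  have hn' : |a' - B| + |b' - b₀| + 1 ≤ |n| := le_trans (Int.self_le_toNat _) hn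
  have h1 := abs_nonneg (a' - B)
  have h2 := le_abs_self (b' - b₀)
  have h3 := neg_abs_le (a' - B)
  have h4 := abs_nonneg (b' - b₀)
  rcases abs_choice n with hc | hc <;> rw [hc] at hn'
  · exact hb₀ _ (qcD_shift hL n) (isLE_shiftG L b' n b₀ (by omega)) φ
  · haveI : (tS).IsLE K B := hB
    haveI : (tS).IsGE (L⟦n⟧) (B + 1) := isGE_shiftG L a' n (B + 1) (by omega)
    exact (tS).zero _ B (B + 1) (by omega)

include hb₀ in
theorem vanishing_iff_truncGE {E : AlgSp.DModEt X} (hE : DCoh.IsQCohDMod (AlgSp.OEtRing X) E) (a : ℤ) :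
    (∃ N : ℤ, ∀ i : ℤ, N ≤ i → ∀ φ : K⟦-i⟧ ⟶ E, φ = 0) ↔
    (∃ N : ℤ, ∀ i : ℤ, N ≤ i → ∀ φ : K⟦-i⟧ ⟶ ((tS).truncGE a).obj E, φ = 0) := by
  let T := (((tS).triangleLTGE a).obj E)
  have hT : T ∈ distTriang _ := (tS).triangleLTGE_distinguished a E
  haveI : T.obj₁.IsLE (a - 1) := (tS).isLE_truncLT_obj E a _ (by omega)
  have h1 : ∀ i, a - b₀ ≤ i → ∀ φ : K⟦-i⟧ ⟶ T.obj₁, φ = 0 := fun i hi φ =>
    eq_zero_of_shiftG _ φ fun ψ => hb₀ _ (qcD_shift (qcD_truncLT hE a) _)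
      (isLE_shiftG T.obj₁ (a - 1) _ b₀ (by omega)) ψ
  have h2 : ∀ i, a - b₀ ≤ i → ∀ φ : K⟦-i⟧ ⟶ T.obj₁⟦(1 : ℤ)⟧, φ = 0 := fun i hi φ => by
    haveI : (T.obj₁⟦(1 : ℤ)⟧).IsLE (a - 2) := isLE_shiftG T.obj₁ (a - 1) 1 (a - 2) (by omega)
    exact eq_zero_of_shiftG _ φ fun ψ => hb₀ _ (qcD_shift (qcD_shift (qcD_truncLT hE a) 1) _)
      (isLE_shiftG (T.obj₁⟦(1 : ℤ)⟧) (a - 2) _ b₀ (by omega)) ψ
  constructor
  · rintro ⟨N, hN⟩
    refine ⟨max N (a - b₀), fun i hi φ => ?_⟩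
    obtain ⟨g, hg⟩ := Triangle.coyoneda_exact₃ T hT φ (h2 i (le_trans (le_max_right _ _) hi) _)
    rw [hg, hN i (le_trans (le_max_left _ _) hi) g]
    exact zero_comp
  · rintro ⟨N, hN⟩
    refine ⟨max N (a - b₀), fun i hi φ => ?_⟩
    obtain ⟨g, hg⟩ := Triangle.coyoneda_exact₂ T hT φ (hN i (le_trans (le_max_left _ _) hi) _)
    rw [hg, h1 i (le_trans (le_max_right _ _) hi) g]
    exact zero_comp

end Groth.Agent.AlgSpShriek
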